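import Groth.Agent.RedOpen.Main
import Groth.Agent.S0352
import Groth.Agent.GrpComp.Identity

/-!
# The clause for a group and its identity component
-/

set_option autoImplicit false
set_option backward.isDefEq.respectTransparency false
set_option linter.style.haveILetI false
set_option linter.unusedSectionVars false
set_option maxHeartbeats 1000000
set_option synthInstance.maxHeartbeats 200000

universe u

open CategoryTheory CategoryTheory.Limits MonoidalCategory CartesianMonoidalCategory MonObj GrpObj AlgebraicGeometry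
open TensorProduct WithConv
open scoped Groth.Agent.Takeuchi
open Groth.Agent.SubGen (rpt map_rpt exists_rpt)
open Groth.Agent.MTBridge (specGrp)

noncomputable section

namespace Groth.Agent.RedOpen

open Chev Chev.BorelFixed Chev.Borel

/-- Conjugates of a subgroup, each normalised by the others, with unipotent actions, fix a common vector. -/
theorem exists_fixed_of_normalized {K : Type u} [Field K] [IsAlgClosed K] {Γ : Type u} [Group Γ] {V : Type u}
    [AddCommGroup V] [Module K V] [FiniteDimensional K V] [Nontrivial V] (ρ : Γ →* Module.End K V) (S : Subgroup Γ)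
    (hS : ∀ g, ∀ h ∈ S, ∀ x ∈ S, (g * h * g⁻¹) * x * (g * h * g⁻¹)⁻¹ ∈ S)
    (hu : ∀ g, ∀ h ∈ S, IsNilpotent (ρ (g * h * g⁻¹) - 1)) :
    ∃ v : V, v ≠ 0 ∧ ∀ g, ∀ h ∈ S, ρ (g * h * g⁻¹) v = v := by
  suffices H : ∀ (r : ℕ) (W : Submodule K V), Module.finrank K W ≤ r → W ≠ ⊥ →
      (∀ g, ∀ h ∈ S, ∀ w ∈ W, ρ (g * h * g⁻¹) w ∈ W) → ∃ v ∈ W, v ≠ 0 ∧ ∀ g, ∀ h ∈ S, ρ (g * h * g⁻¹) v = v by
    obtain ⟨v, -, hv⟩ := H _ ⊤ le_rfl top_ne_bot fun _ _ _ _ _ => trivial
    exact ⟨v, hv⟩
  intro r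
  induction r with
  | zero => exact fun W hW h0 => (h0 (Submodule.finrank_eq_zero.1 (Nat.le_zero.1 hW))).elim
  | succ r ih =>
    intro W hW h0 hstab
    by_cases hall : ∀ g, ∀ h ∈ S, ∀ w ∈ W, ρ (g * h * g⁻¹) w = w
    · obtain ⟨v, hv, hv0⟩ := (Submodule.ne_bot_iff W).1 h0
      exact ⟨v, hv, hv0, fun g h hh => hall g h hh v hv⟩
    obtain ⟨g₀, hg₀⟩ := not_forall.1 hall
    let W' : Submodule K V :=
      { carrier := {w | w ∈ W ∧ ∀ h ∈ S, ρ (g₀ * h * g₀⁻¹) w = w}
        add_mem' := fun {a b} ha hb => ⟨add_mem ha.1 hb.1, fun h hh => by rw [map_add, ha.2 h hh, hb.2 h hh]⟩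
        zero_mem' := ⟨zero_mem _, fun h _ => map_zero _⟩
        smul_mem' := fun c a ha => ⟨W.smul_mem c ha.1, fun h hh => by rw [map_smul, ha.2 h hh]⟩ }
    have hlt : W' < W := lt_of_le_of_ne (fun w hw => hw.1) fun he => hg₀ fun h hh w hw =>
      (he.symm ▸ hw : w ∈ W').2 h hh
    haveI : Nontrivial W := Submodule.nontrivial_iff_ne_bot.2 h0
    let σ : S →* Module.End K W :=
      { toFun := fun h => (ρ (g₀ * h * g₀⁻¹)).restrict (hstab g₀ h h.2)
        map_one' := LinearMap.ext fun x => Subtype.ext (by simp)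
        map_mul' := fun a b => LinearMap.ext fun x => Subtype.ext (by
          show ρ (g₀ * (a * b : Γ) * g₀⁻¹) x = ρ (g₀ * a * g₀⁻¹) (ρ (g₀ * b * g₀⁻¹) x)
          rw [← Module.End.mul_apply, ← map_mul]
          congr 2
          group) }
    obtain ⟨w, hw0, hw⟩ := S7975.kolchin_closed K W σ fun h => by
      obtain ⟨m, hm⟩ := hu g₀ h h.2
      refine ⟨m, ?_⟩
      have h1 : ∀ (l : ℕ) (x : W), (((σ h - 1) ^ l) x : V) = ((ρ (g₀ * h * g₀⁻¹) - 1) ^ l) x := by
        intro l
        induction l with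
        | zero => intro x; rfl
        | succ l ihl =>
          intro x
          rw [pow_succ, pow_succ, Module.End.mul_apply, Module.End.mul_apply, ihl]
          rfl
      refine LinearMap.ext fun x => Subtype.ext ?_
      rw [h1, hm]
      rfl
    have h0' : W' ≠ ⊥ := (Submodule.ne_bot_iff W').2
      ⟨w, ⟨w.2, fun h hh => congrArg Subtype.val (hw ⟨h, hh⟩)⟩, fun hz => hw0 (Subtype.ext hz)⟩
    have hr : Module.finrank K W' ≤ r := by
      have := Submodule.finrank_lt_finrank_of_lt hlt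
      omega
    obtain ⟨v, hv, hv'⟩ := ih W' hr h0' fun g h hh x hx => ⟨hstab g h hh x hx.1, fun k hk => by
      have hmem : (g₀⁻¹ * g) * h⁻¹ * (g₀⁻¹ * g)⁻¹ * k * ((g₀⁻¹ * g) * h⁻¹ * (g₀⁻¹ * g)⁻¹)⁻¹ ∈ S :=
        hS _ _ (S.inv_mem hh) _ hk
      have h1 : (g₀ * k * g₀⁻¹) * (g * h * g⁻¹) =
          (g * h * g⁻¹) * (g₀ * ((g₀⁻¹ * g) * h⁻¹ * (g₀⁻¹ * g)⁻¹ * k * ((g₀⁻¹ * g) * h⁻¹ * (g₀⁻¹ * g)⁻¹)⁻¹) * g₀⁻¹) := by
        group
      rw [← Module.End.mul_apply, ← map_mul, h1, map_mul, Module.End.mul_apply, hx.2 _ hmem]⟩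
    exact ⟨v, hv.1, hv'⟩

section Crit

variable {R A : Type u} [CommRing R] [CommRing A] [HopfAlgebra R A] {K : Type u} [Field K] [IsAlgClosed K]
  [Algebra R K]

/-- A conjugation stable set with a common fixed vector acts trivially in a full representation. -/
theorem evM_eq_one_of_fixed {d : ℕ} {M : Matrix (Fin d) (Fin d) (K ⊗[R] A)} (hM : IsRep M) (hfull : IsFull M)
    (S : Set (Pts R A K)) (hconj : ∀ g, ∀ h ∈ S, g * h * g⁻¹ ∈ S) {v : Fin d → K} (hv0 : v ≠ 0)
    (hv : ∀ g ∈ S, Matrix.toLinAlgEquiv' (evM g M) v = v) {h : Pts R A K} (hh : h ∈ S) : evM h M = 1 := by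
  let e : Matrix (Fin d) (Fin d) K ≃ₐ[K] Module.End K (Fin d → K) := Matrix.toLinAlgEquiv'
  have hall : ∀ N : Matrix (Fin d) (Fin d) K, e (evM h M) (e N v) = e N v := by
    intro N
    have hN : N ∈ Submodule.span K (Set.range fun u : Pts R A K => evM u M) := by rw [hfull]; trivial
    induction hN using Submodule.span_induction with
    | mem x hx =>
      obtain ⟨g, rfl⟩ := hx
      have h1 : evM h M * evM g M = evM g M * evM (g⁻¹ * h * g⁻¹⁻¹) M := by
        rw [← hM.evM_mul, ← hM.evM_mul]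
        congr 1
        group
      rw [← Module.End.mul_apply, ← map_mul, h1, map_mul, Module.End.mul_apply, hv _ (hconj g⁻¹ h hh)]
    | zero => simp
    | add x y _ _ hx hy => simp only [map_add, LinearMap.add_apply, hx, hy]
    | smul c x _ hx => simp only [map_smul, LinearMap.smul_apply, hx]
  refine e.injective (LinearMap.ext fun w => ?_)
  obtain ⟨j, hj⟩ := Function.ne_iff.1 hv0
  let T : Module.End K (Fin d → K) := (LinearMap.proj j : (Fin d → K) →ₗ[K] K).smulRight ((v j)⁻¹ • w)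
  have hT : T v = w := by
    simp only [T, LinearMap.smulRight_apply, LinearMap.proj_apply, smul_smul]
    rw [mul_inv_cancel₀ (by simpa using hj), one_smul]
  have h1 := hall (e.symm T)
  rw [AlgEquiv.apply_symm_apply, hT] at h1
  rw [h1, map_one]
  rfl

/-- A uniformly unipotent subgroup normalised by its conjugates is finite. -/
theorem Good.finite_of_normalized (hG : Good R A K) (S : Subgroup (Pts R A K))
    (hS : ∀ g, ∀ h ∈ S, ∀ x ∈ S, (g * h * g⁻¹) * x * (g * h * g⁻¹)⁻¹ ∈ S) (hu : IsUni (S : Set (Pts R A K))) :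
    (S : Set (Pts R A K)).Finite := by
  obtain ⟨m, d, M, hM, hfull, hfin⟩ := hG
  refine hfin.subset fun h hh l => ?_
  rcases Nat.eq_zero_or_pos (d l) with h0 | hd
  · exact Matrix.ext fun i => (Fin.cast h0 i).elim0
  haveI : Nonempty (Fin (d l)) := Fin.pos_iff_nonempty.1 hd
  let e : Matrix (Fin (d l)) (Fin (d l)) K ≃ₐ[K] Module.End K (Fin (d l) → K) := Matrix.toLinAlgEquiv'
  obtain ⟨v, hv0, hv⟩ := exists_fixed_of_normalized (e.toMulEquiv.toMonoidHom.comp (hM l).hom) S hS fun g x hx => by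
    show IsNilpotent (e (evM (g * x * g⁻¹) (M l)) - 1)
    obtain ⟨k, hk⟩ := hu.isNilpotent (hM l) hx
    rw [← map_one e, ← map_sub]
    refine IsNilpotent.map ⟨k, ?_⟩ e
    have hinv : evM g (M l) * evM g⁻¹ (M l) = 1 := by rw [← (hM l).evM_mul, mul_inv_cancel, (hM l).evM_one]
    have hinv' : evM g⁻¹ (M l) * evM g (M l) = 1 := by rw [← (hM l).evM_mul, inv_mul_cancel, (hM l).evM_one]
    have key : ∀ p : ℕ, (evM (g * x * g⁻¹) (M l) - 1) ^ p = evM g (M l) * (evM x (M l) - 1) ^ p * evM g⁻¹ (M l) := by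
      intro p
      induction p with
      | zero => rw [pow_zero, pow_zero, _root_.mul_one, hinv]
      | succ p ihp =>
        rw [pow_succ, ihp, pow_succ]
        have h2 : evM (g * x * g⁻¹) (M l) - 1 = evM g (M l) * (evM x (M l) - 1) * evM g⁻¹ (M l) := by
          rw [(hM l).evM_mul, (hM l).evM_mul, mul_sub, sub_mul, _root_.mul_one, hinv]
        rw [h2]
        simp only [_root_.mul_assoc]
        rw [← _root_.mul_assoc (evM g⁻¹ (M l)), hinv', _root_.one_mul]
    rw [key, hk, mul_zero, zero_mul]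
  refine evM_eq_one_of_fixed (hM l) (hfull l) {y | ∃ g, ∃ x ∈ S, g * x * g⁻¹ = y} ?_ hv0 ?_
    ⟨1, h, hh, by simp⟩
  · rintro g _ ⟨g', x, hx, rfl⟩
    exact ⟨g * g', x, hx, by group⟩
  · rintro _ ⟨g, x, hx, rfl⟩
    exact hv g x hx

end Crit

section Sub

variable {K : Type u} [Field K] {G G₀ : Over (Spec (CommRingCat.of K))} [GrpObj G] [GrpObj G₀] (j : G₀ ⟶ G)
  [IsMonHom j] [IsOpenImmersion j.left]

/-- A connected space meeting an open subgroup lies in it. -/
theorem exists_factor_conn {X : Over (Spec (CommRingCat.of K))} [ConnectedSpace X.left] (f : X ⟶ G)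
    (hx : ∃ x, f.left x ∈ Set.range j.left) : ∃ f' : X ⟶ G₀, f' ≫ j = f := by
  have hcl : IsClosed (Set.range j.left) := S0352.result K G₀ G j j.left.isOpenEmbedding.isOpen_range
  have hu : f.left ⁻¹' Set.range j.left = Set.univ :=
    IsClopen.eq_univ ⟨hcl.preimage f.left.continuous, j.left.isOpenEmbedding.isOpen_range.preimage f.left.continuous⟩ hx
  have hr : Set.range f.left ⊆ Set.range j.left := by
    rintro _ ⟨x, rfl⟩
    exact hu.ge (Set.mem_univ x)
  refine ⟨Over.homMk (IsOpenImmersion.lift j.left f.left hr) ?_, Over.OverMorphism.ext (IsOpenImmersion.lift_fac _ _ _)⟩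
  rw [← Over.w j, IsOpenImmersion.lift_fac_assoc, Over.w f]

theorem isClosedImmersion_openSub : IsClosedImmersion j.left :=
  IsClosedImmersion.of_isPreimmersion j.left (S0352.result K G₀ G j j.left.isOpenEmbedding.isOpen_range)

include j in
/-- The clause passes up from a connected open subgroup. -/
theorem noUni_of_openSub (h : NoUni G₀) : NoUni G := by
  intro U _ i _ hic hUs hUc hnorm hUt
  haveI := hic; haveI := hUs; haveI := hUc
  haveI : Mono j := Over.mono_of_mono_left j
  obtain ⟨t⟩ : Nonempty ↥(𝟙_ (Over (Spec (CommRingCat.of K)))).left :=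
    inferInstanceAs (Nonempty (PrimeSpectrum K))
  obtain ⟨i', hi'⟩ := exists_factor_conn j i ⟨η[U].left t, η[G₀].left t, by
    rw [← Scheme.Hom.comp_apply, ← Scheme.Hom.comp_apply, ← Over.comp_left, ← Over.comp_left,
      IsMonHom.one_hom i, IsMonHom.one_hom j]⟩
  haveI : IsMonHom i' := MTSplit.isMonHom_of_comp_mono i' j i hi'
  haveI : IsClosedImmersion (i'.left ≫ j.left) := by rw [← Over.comp_left, hi']; exact hic
  haveI : IsClosedImmersion i'.left := IsClosedImmersion.of_comp i'.left j.left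
  refine h U i' inferInstance hUs hUc (fun T g n => ?_) hUt
  obtain ⟨n', hn'⟩ := hnorm T (g ≫ j) n
  refine ⟨n', (cancel_mono j).1 ?_⟩
  rw [MonObj.mul_comp, MonObj.mul_comp, GrpObj.inv_comp, Category.assoc, Category.assoc, hi', hn']

end Sub

section Down

variable {R A : Type u} [CommRing R] [CommRing A] [HopfAlgebra R A] [Algebra.Smooth R A]
  {K : Type u} [Field K] [IsAlgClosed K] [Algebra R K]
  {G : Over (Spec (CommRingCat.of K))} [GrpObj G] (e : (specGrp K (K ⊗[R] A)).X ≅ G) [IsMonHom e.hom]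
  {G₀ : Over (Spec (CommRingCat.of K))} [GrpObj G₀] (j : G₀ ⟶ G) [IsMonHom j] [IsOpenImmersion j.left]
  [ConnectedSpace G₀.left]

include e j in
/-- The clause passes down to a connected open subgroup. -/
theorem noUni_openSub_of_good (h : Good R A K) : NoUni G₀ := by
  intro U _ i _ hic hUs hUc hnorm hUt
  haveI := hic; haveI := hUs; haveI := hUc
  haveI : IsAffine (specGrp K (K ⊗[R] A)).X.left := inferInstanceAs (IsAffine (Spec (CommRingCat.of (K ⊗[R] A))))
  haveI : IsIso e.inv.left := inferInstanceAs (IsIso ((Over.forget _).map e.inv))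
  haveI : IsAffine G.left := IsAffine.of_isIso e.inv.left
  haveI : IsClosedImmersion j.left := isClosedImmersion_openSub j
  haveI : IsAffine G₀.left := isAffine_of_isAffineHom j.left
  haveI : IsAffine U.left := isAffine_of_isAffineHom i.left
  haveI : IsClosedImmersion (i ≫ j).left := inferInstanceAs (IsClosedImmersion (i.left ≫ j.left))
  obtain ⟨A', hA', e', he'⟩ := FinHopf.exists_hopf (R := CommRingCat.of K) U
  haveI := he'
  haveI := finiteType_of_smooth (R := R) (A := A)
  obtain ⟨n, M, hM, hgen⟩ := exists_generating (R := R) (A := A) (K := K)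
  let ψ := (ptG e).toMonoidHom.comp (BorelFixed.rpHom (i ≫ j))
  let S := ψ.range
  have hconj₀ : ∀ (g : RP G) (y : RP G₀), ∃ y' : RP G₀, y' ≫ j = g * (y ≫ j) * g⁻¹ := by
    intro g y
    let gG : G₀ ⟶ G := toUnit G₀ ≫ g
    obtain ⟨t⟩ : Nonempty ↥(𝟙_ (Over (Spec (CommRingCat.of K)))).left :=
      inferInstanceAs (Nonempty (PrimeSpectrum K))
    obtain ⟨c, hc⟩ := exists_factor_conn j (gG * j * gG⁻¹) ⟨η[G₀].left t, η[G₀].left t, by
      rw [← Scheme.Hom.comp_apply, ← Scheme.Hom.comp_apply, ← Over.comp_left, ← Over.comp_left]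
      congr 1
      congr 1
      rw [MonObj.comp_mul, MonObj.comp_mul, GrpObj.comp_inv, IsMonHom.one_hom j,
        MonObj.one_eq_one, _root_.mul_one, mul_inv_cancel]⟩
    refine ⟨y ≫ c, ?_⟩
    rw [Category.assoc, hc, MonObj.comp_mul, MonObj.comp_mul, GrpObj.comp_inv]
    simp [gG]
  have hS : ∀ g, ∀ a ∈ S, ∀ x ∈ S, (g * a * g⁻¹) * x * (g * a * g⁻¹)⁻¹ ∈ S := by
    rintro g _ ⟨v, rfl⟩ _ ⟨u, rfl⟩
    obtain ⟨y, hy⟩ := hconj₀ ((ptG e).symm g) (v ≫ i)
    obtain ⟨u', hu'⟩ := hnorm _ y u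
    refine ⟨u', ?_⟩
    have h1 := congrArg (fun z => ptG e (z ≫ j)) hu'
    simp only [MonObj.mul_comp, GrpObj.inv_comp, map_mul, map_inv, hy, MulEquiv.apply_symm_apply, Category.assoc] at h1
    exact h1.symm
  have hu : IsUni (S : Set (Pts R A K)) := isUni_of_generating hM hgen _ (by
    rintro _ ⟨u, rfl⟩
    have h1 := isNilpotent_of_noSubtorus hUt e' ((isRegular_matRep e hM).comp e' (i ≫ j)) u
    have h2 := h1.map (Matrix.toLinAlgEquiv' : Matrix (Fin n) (Fin n) K ≃ₐ[K] Module.End K (Fin n → K)).symm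
    rw [map_sub, map_one] at h2
    refine Eq.mp ?_ h2
    congr 2
    exact AlgEquiv.symm_apply_apply _ _)
  have hfin := h.finite_of_normalized S hS hu
  haveI : Mono (i ≫ j) := GrpField.SchImg.mono_of_isClosedImmersion (i ≫ j)
  haveI : Finite (RP U) := by
    haveI := hfin.to_subtype
    exact Finite.of_injective (fun u => (⟨ψ u, u, rfl⟩ : (S : Set (Pts R A K))))
      fun u v huv => (cancel_mono (i ≫ j)).1 ((ptG e).injective (congrArg Subtype.val huv))
  exact isTrivialGrp_of_finite e'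

end Down

section Field

variable {K : Type u} [Field K] [IsAlgClosed K] {G : Over (Spec (CommRingCat.of K))} [GrpObj G]

/-- The clause for a connected open subgroup is the clause for the group. -/
theorem noUni_openSub_iff [IsAffine G.left] [Smooth G.hom] {G₀ : Over (Spec (CommRingCat.of K))} [GrpObj G₀]
    (j : G₀ ⟶ G) [IsMonHom j] [IsOpenImmersion j.left] [ConnectedSpace G₀.left] : NoUni G₀ ↔ NoUni G := by
  refine ⟨noUni_of_openSub j, fun h => ?_⟩
  obtain ⟨A, hA, e, he⟩ := FinHopf.exists_hopf (R := CommRingCat.of K) G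
  haveI := he
  haveI : IsIso e.hom.left := inferInstanceAs (IsIso ((Over.forget _).map e.hom))
  haveI : Algebra.Smooth K A := by
    have h0 : Smooth (e.hom.left ≫ G.hom) := inferInstance
    rw [Over.w e.hom] at h0
    exact RingHom.smooth_algebraMap.1 ((HasRingHomProperty.Spec_iff (P := @Smooth)).1 h0)
  obtain ⟨ε⟩ := MTBridge.nonempty_specGrp_iso (R := K) (Bialgebra.TensorProduct.lid K A)
  let e' : (specGrp K (K ⊗[K] A)).X ≅ G := ((Grp.forget _).mapIso ε).symm ≪≫ e
  haveI : IsMonHom e'.hom := by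
    show IsMonHom (ε.inv.hom.hom ≫ e.hom)
    haveI : IsMonHom ε.inv.hom.hom := ε.inv.hom.isMonHom_hom
    infer_instance
  exact noUni_openSub_of_good e' j (good_of_noUni e' h)

/-- The identity component as a connected open subgroup. -/
theorem exists_open_connected (G : Over (Spec (CommRingCat.of K))) [GrpObj G] [Smooth G.hom] :
    ∃ (G₀ : Over (Spec (CommRingCat.of K))) (_ : GrpObj G₀) (j : G₀ ⟶ G) (_ : IsMonHom j),
      IsOpenImmersion j.left ∧ IsClosedImmersion j.left ∧ ConnectedSpace G₀.left ∧ CompactSpace G₀.left := by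
  obtain ⟨G₀, _, j, hj, hjc, hjf, hr, -, hcp, -⟩ := GrpComp.exists_identity_subgroup G
  haveI := hjc; haveI := hjf
  haveI : IsLocallyNoetherian G.left := LocallyOfFiniteType.isLocallyNoetherian G.hom
  haveI : LocallyOfFinitePresentation j.left := inferInstance
  haveI : IsOpenImmersion j.left := IsOpenImmersion.of_flat_of_mono j.left
  refine ⟨G₀, inferInstance, j, hj, inferInstance, hjc, ?_, hcp⟩
  haveI : ConnectedSpace ↥(Set.range j.left) :=
    Subtype.connectedSpace (hr ▸ isConnected_connectedComponent)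
  exact j.left.isClosedEmbedding.isEmbedding.toHomeomorph.symm.surjective.connectedSpace
    j.left.isClosedEmbedding.isEmbedding.toHomeomorph.symm.continuous

end Field

end Groth.Agent.RedOpen
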