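import Groth.Agent.RedOpen.Main
import Groth.Agent.RedCartan.Global
import Groth.Agent.S3003
import Groth.Agent.S5313

/-!
# Reductivity spreads to a neighbourhood
-/

set_option autoImplicit false
set_option backward.isDefEq.respectTransparency false
set_option linter.style.haveILetI false
set_option linter.unusedSectionVars false
set_option maxHeartbeats 1000000
set_option synthInstance.maxHeartbeats 200000

universe u

open CategoryTheory CategoryTheory.Limits MonoidalCategory CartesianMonoidalCategory AlgebraicGeometry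
open scoped CategoryTheory.Obj MonObj
open Groth.Agent.MTBridge

noncomputable section

namespace Groth.Agent.RedOpen

/-- The clause is invariant under isomorphisms. -/
theorem noUni_of_iso {k : Type u} [Field k] {H H' : Over (Spec (CommRingCat.of k))} [GrpObj H] [GrpObj H']
    (ε : Grp.mk H ≅ Grp.mk H') (h : NoUni H) : NoUni H' := by
  intro U _ i _ hic hUs hUc hnorm hUt
  let e : H' ≅ H := ((Grp.forget _).mapIso ε).symm
  haveI : IsMonHom e.hom := ε.inv.hom.isMonHom_hom
  haveI := hic
  haveI : IsIso e.hom.left := inferInstanceAs (IsIso ((Over.forget _).map e.hom))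
  refine h U (i ≫ e.hom) (inferInstanceAs (IsClosedImmersion (i.left ≫ e.hom.left))) hUs hUc (fun T g n => ?_) hUt
  obtain ⟨n', hn'⟩ := hnorm T (g ≫ e.inv) n
  refine ⟨n', (cancel_mono e.inv).1 ?_⟩
  rw [MonObj.mul_comp, MonObj.mul_comp, GrpObj.inv_comp]
  simp only [Category.assoc, e.hom_inv_id, Category.comp_id]
  exact hn'

/-- The clause moves along an isomorphism of groups. -/
theorem noUni_iso_iff {k : Type u} [Field k] {H H' : Over (Spec (CommRingCat.of k))} [GrpObj H] [GrpObj H']
    (ε : Grp.mk H ≅ Grp.mk H') : NoUni H ↔ NoUni H' :=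
  ⟨noUni_of_iso ε, noUni_of_iso ε.symm⟩

/-- Smoothness of base changes factors through intermediate ones. -/
theorem smooth_snd_comp {X S S' S'' : Scheme.{u}} (f : X ⟶ S) (a : S' ⟶ S) (b : S'' ⟶ S')
    [Smooth (pullback.snd f a)] : Smooth (pullback.snd f (b ≫ a)) := by
  rw [← pullbackLeftPullbackSndIso_inv_snd_snd f a b]
  infer_instance

variable {S : Scheme.{u}} (G : Over S) [GrpObj G]

/-- A flat group with a smooth geometric fibre is smooth nearby. -/
theorem exists_smooth_nhd [Flat G.hom] [LocallyOfFinitePresentation G.hom] (s₀ : S)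
    (h₀ : Smooth (Red.geomFibre s₀ G).hom) :
    ∃ U : S.Opens, s₀ ∈ U ∧ Smooth (pullback.snd G.hom U.ι) := by
  haveI : LocallyOfFiniteType (𝟙_ (Over S)).hom := inferInstanceAs (LocallyOfFiniteType (𝟙 S))
  obtain ⟨hop, heq⟩ := S5313.result S G (𝟙_ (Over S)) (toUnit G)
  let U : S.Opens := ⟨_, hop⟩
  refine ⟨U, ?_, ?_⟩
  · show Smooth ((Over.pullback (S.fromSpecResidueField s₀)).map (toUnit G)).left
    haveI hs : Smooth (pullback.snd G.hom (S.fromSpecResidueField s₀)) := by
      let g := Spec.map (CommRingCat.ofHom (algebraMap (S.residueField s₀) (AlgebraicClosure (S.residueField s₀))))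
      apply MorphismProperty.of_pullback_snd_of_descendsAlong (Q := @Surjective ⊓ @Flat ⊓ @QuasiCompact) (g := g)
      · exact ⟨⟨inferInstance, inferInstance⟩, inferInstance⟩
      · rw [← pullbackLeftPullbackSndIso_hom_snd G.hom (S.fromSpecResidueField s₀) g]
        haveI : Smooth (pullback.snd G.hom (g ≫ S.fromSpecResidueField s₀)) := h₀
        infer_instance
    let m := ((Over.pullback (S.fromSpecResidueField s₀)).map (toUnit G)).left
    haveI : IsIso (Red.bc (S.fromSpecResidueField s₀) (𝟙_ (Over S))).hom :=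
      inferInstanceAs (IsIso (pullback.snd (𝟙 S) (S.fromSpecResidueField s₀)))
    have hm : m ≫ (Red.bc (S.fromSpecResidueField s₀) (𝟙_ (Over S))).hom =
        pullback.snd G.hom (S.fromSpecResidueField s₀) := Over.w _
    exact (MorphismProperty.cancel_right_of_respectsIso @Smooth m _).1 (hm ▸ hs)
  · let p := pullback.fst G.hom U.ι
    have hp : p ⁻¹ᵁ G.hom.smoothLocus = ⊤ := by
      rw [← top_le_iff]
      intro q _
      have h1 : p q ∈ G.hom.base ⁻¹' (U : Set S) := by
        show G.hom (p q) ∈ U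
        rw [← Scheme.Hom.comp_apply, pullback.condition, Scheme.Hom.comp_apply]
        exact (pullback.snd G.hom U.ι q).2
      obtain ⟨W, hqW, hW⟩ := heq.ge h1
      haveI : Smooth (W.ι ≫ G.hom) := hW
      have h2 : (⟨p q, hqW⟩ : W) ∈ W.ι ⁻¹ᵁ G.hom.smoothLocus := by
        rw [Scheme.Hom.preimage_smoothLocus_eq, Scheme.Hom.smoothLocus_eq_top]
        trivial
      exact h2
    haveI : Smooth (p ≫ G.hom) := by
      rw [← Scheme.Hom.smoothLocus_eq_top_iff, ← Scheme.Hom.preimage_smoothLocus_eq, hp]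
    haveI : Smooth (pullback.snd G.hom U.ι ≫ U.ι) := by rw [← pullback.condition]; infer_instance
    exact MorphismProperty.of_postcomp (W := @Smooth) (W' := @IsOpenImmersion) _ U.ι inferInstance inferInstance

/-- The clause near a point makes the group reductive on an affine neighbourhood. -/
theorem exists_reductive_chart [IsAffineHom G.hom] [Flat G.hom] [LocallyOfFinitePresentation G.hom]
    (hconn : ∀ s : S, _root_.IsConnected (G.hom.base ⁻¹' {s})) (s₀ : S)
    (h₀ : Red.IsReductiveOver (AlgebraicClosure (S.residueField s₀)) (Red.geomFibre s₀ G)) :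
    ∃ (V : S.Opens) (hV : IsAffineOpen V) (v₀ : ↥(Spec Γ(S, V))), hV.fromSpec v₀ = s₀ ∧
      Smooth (Red.bc hV.fromSpec G).hom ∧ IsAffineHom (Red.bc hV.fromSpec G).hom ∧
      ∃ W : Set ↥(Spec Γ(S, V)), IsOpen W ∧ v₀ ∈ W ∧ ∀ a ∈ W,
        Red.IsReductiveOver (AlgebraicClosure ((Spec Γ(S, V)).residueField a))
          (Red.geomFibre a (Red.bc hV.fromSpec G)) := by
  obtain ⟨U, hsU, hU⟩ := exists_smooth_nhd G s₀ h₀.2.1
  haveI := hU
  obtain ⟨_, ⟨V, hV', rfl⟩, hsV, hVU⟩ := S.isBasis_affineOpens.exists_subset_of_mem_open hsU U.2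
  have hV : IsAffineOpen V := hV'
  let GV := Red.bc hV.fromSpec G
  haveI : IsAffineHom GV.hom := inferInstanceAs (IsAffineHom (pullback.snd G.hom hV.fromSpec))
  haveI : Smooth GV.hom := by
    have hr : Set.range hV.fromSpec ⊆ Set.range U.ι := by
      rw [hV.range_fromSpec, Scheme.Opens.range_ι]; exact hVU
    show Smooth (pullback.snd G.hom hV.fromSpec)
    rw [← IsOpenImmersion.lift_fac U.ι hV.fromSpec hr]
    exact smooth_snd_comp G.hom U.ι _
  obtain ⟨v₀, hv₀⟩ : s₀ ∈ Set.range hV.fromSpec := by rw [hV.range_fromSpec]; exact hsV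
  have hconnV : ∀ a, _root_.IsConnected (GV.hom.base ⁻¹' {a}) :=
    MTImage.isConnected_fibre_bc G hconn hV.fromSpec
  refine ⟨V, hV, v₀, hv₀, inferInstance, inferInstance, {a | NoUni (Red.geomFibre a GV)}, isOpen_noUni GV, ?_,
    fun a ha => ⟨?_, ?_, TorusLift.connectedSpace_bc_geom hconnV _, ha⟩⟩
  · let g := Spec.map (CommRingCat.ofHom (algebraMap (S.residueField s₀) (AlgebraicClosure (S.residueField s₀))))
    have hr : Set.range (Red.geomPt s₀) ⊆ Set.range hV.fromSpec := by
      rintro _ ⟨x, rfl⟩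
      rw [Subsingleton.elim x (IsLocalRing.closedPoint _), MTImage.geomPt_closedPoint, hV.range_fromSpec]
      exact hsV
    let y := IsOpenImmersion.lift hV.fromSpec (Red.geomPt s₀) hr
    have hy : y ≫ hV.fromSpec = Red.geomPt s₀ := IsOpenImmersion.lift_fac _ _ _
    have h1 : NoUni (Red.bc y GV) :=
      (noUni_iso_iff (bcCongr hy.symm G ≪≫ bcComp hV.fromSpec y G)).1 h₀.2.2.2
    refine (noUni_bc_iff GV y (Red.geomPt v₀) ?_).1 h1
    rw [MTImage.geomPt_closedPoint]
    refine hV.fromSpec.isOpenEmbedding.injective ?_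
    rw [hv₀, ← Scheme.Hom.comp_apply, hy, MTImage.geomPt_closedPoint]
  · haveI : IsAffineHom (Red.geomFibre a GV).hom := inferInstanceAs (IsAffineHom (pullback.snd GV.hom _))
    exact isAffine_of_isAffineHom (Red.geomFibre a GV).hom
  · exact inferInstanceAs (Smooth (pullback.snd GV.hom _))

end Groth.Agent.RedOpen
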