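import Groth.Agent.RedOpen.Near
import Groth.Agent.RedOpen.Component
import Groth.Agent.Chev.CentBC
import Groth.Agent.Chev.LargestSA
import Groth.Agent.GrpField.Dimension
import Groth.Agent.GrpField.RatClosure
import Groth.Agent.GrpDim.Flat
import Groth.Agent.MTImage.RankSemicont
import Groth.Agent.S5255
import Groth.Agent.S3002

/-!
# The semisimple locus
-/

set_option autoImplicit false
set_option backward.isDefEq.respectTransparency false
set_option linter.style.haveILetI false
set_option linter.unusedSectionVars false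
set_option maxHeartbeats 1000000
set_option synthInstance.maxHeartbeats 200000

universe u

open CategoryTheory CategoryTheory.Limits MonoidalCategory CartesianMonoidalCategory MonObj GrpObj AlgebraicGeometry
open Groth.Agent.SubGen (rpt map_rpt exists_rpt)

noncomputable section

namespace Groth.Agent.RedOpen

open Chev Chev.BorelFixed Chev.Borel

/-- A centre is carried along an isomorphism of groups. -/
theorem isCentre_comp_iso {S : Scheme.{u}} {G G' Z : Over S} [GrpObj G] [GrpObj G'] [GrpObj Z] (z : Z ⟶ G)
    (hz : Red.IsCentre z) (e : G ≅ G') [IsMonHom e.hom] : Red.IsCentre (z ≫ e.hom) := by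
  obtain ⟨hm, hmono, hu⟩ := hz
  haveI := hm; haveI := hmono
  refine ⟨inferInstance, mono_comp _ _, fun X g => ⟨?_, fun hg => ?_⟩⟩
  · rintro ⟨w, rfl⟩ X' x h
    have key := congrArg (fun t => t ≫ e.hom) ((hu X (w ≫ z)).1 ⟨w, rfl⟩ X' x (h ≫ e.inv))
    simp only [MonObj.mul_comp, Category.assoc, Category.comp_id, Category.id_comp, e.inv_hom_id] at key
    simpa using key
  · obtain ⟨w, hw⟩ := (hu X (g ≫ e.inv)).2 fun X' x h => by
      have key := hg X' x (h ≫ e.hom)
      rw [← cancel_mono e.hom]
      simp only [MonObj.mul_comp, Category.assoc, Category.comp_id, e.inv_hom_id]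
      simpa using key
    exact ⟨w, by rw [reassoc_of% hw, e.inv_hom_id, Category.comp_id]⟩

/-- A reductive group is semisimple exactly when its centre is zero dimensional. -/
theorem isSemisimpleOver_iff_centre {K : Type u} [Field K] [IsAlgClosed K] {G Z : Over (Spec (CommRingCat.of K))}
    [GrpObj G] [GrpObj Z] (hG : Red.IsReductiveOver K G) (z : Z ⟶ G) (hz : Red.IsCentre z)
    [IsClosedImmersion z.left] :
    Red.IsSemisimpleOver K G ↔ topologicalKrullDim ↥Z.left ≤ 0 := by
  obtain ⟨hGa, hGs, hGc, hrad⟩ := id hG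
  haveI := hGa; haveI := hGs; haveI := hGc
  haveI : IsAffineHom G.hom := isAffineHom_of_isAffine G.hom
  haveI := hz.1; haveI := hz.2.1
  haveI : LocallyOfFiniteType Z.hom := by rw [← Over.w z]; infer_instance
  constructor
  · intro hss
    haveI : LocallyOfFiniteType G.hom := inferInstance
    let S := (BorelFixed.rpHom z).range
    obtain ⟨H, _, i, him, hic, hHs, hr⟩ := GrpField.RatClosure.exists_subgroup_closure (G := G) S
    haveI := him; haveI := hic; haveI := hHs
    haveI : JacobsonSpace Z.left := LocallyOfFiniteType.jacobsonSpace Z.hom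
    have hzi : Set.range z.left = Set.range i.left := by
      rw [hr]
      refine subset_antisymm ?_ (closure_minimal ?_ z.left.isClosedEmbedding.isClosed_range)
      · rw [← Set.image_univ, ← closure_closedPoints (X := Z.left)]
        refine (image_closure_subset_closure_image z.left.continuous).trans (closure_mono ?_)
        rintro _ ⟨w, hw, rfl⟩
        obtain ⟨q, hq⟩ := exists_rpt (Y := Z) hw
        exact ⟨q ≫ z, ⟨q, rfl⟩, by rw [← hq]; rfl⟩
      · rintro _ ⟨_, ⟨q, rfl⟩, rfl⟩
        exact ⟨rpt q, rfl⟩
    haveI : IsReduced H.left := SmoothRed.isReduced_of_smooth_scheme H.hom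
    obtain ⟨l, hl⟩ := exists_lift_range i z hzi.ge
    obtain ⟨H₀, _, j, hjm, hjo, hjc, hH₀conn, hH₀cp⟩ := exists_open_connected H
    haveI := hjo; haveI := hjc; haveI := hH₀conn; haveI := hH₀cp
    let c : H₀ ⟶ G := j ≫ i
    haveI : IsClosedImmersion c.left := inferInstanceAs (IsClosedImmersion (j.left ≫ i.left))
    haveI : Smooth H₀.hom := by rw [← Over.w j]; infer_instance
    have hcent : ∀ (X : Over (Spec (CommRingCat.of K))) (g : X ⟶ G) (n : X ⟶ H₀),
        g * (n ≫ c) * g⁻¹ = n ≫ c := fun X g n => by
      have h := (hz.2.2 X (n ≫ c)).1 ⟨n ≫ j ≫ l, by simp [c, hl]⟩ X (𝟙 X) g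
      rw [Category.id_comp, Category.comp_id] at h
      rw [← h, mul_inv_cancel_right]
    have hH₀t : Red.HasNoSubtorus K H₀ := by
      intro T _ t _ _ hT
      haveI : Mono c := GrpField.SchImg.mono_of_isClosedImmersion c
      haveI : Mono (t ≫ c) := mono_comp _ _
      haveI : IsClosedImmersion (t ≫ c).left := MTBridge.isClosedImmersion_of_mono
        (MTBridge.locally_of_isMultTypeFT' T (MTBridge.isMultTypeFT_of_isTorus T hT)) inferInstance (t ≫ c)
      refine hss.2 T (t ≫ c) inferInstance (fun X g n => ⟨n, ?_⟩) hT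
      rw [← Category.assoc]
      exact hcent X g (n ≫ t)
    have htriv : Red.IsTrivialGrp H₀ :=
      hrad H₀ c inferInstance inferInstance inferInstance (fun X g n => ⟨n, hcent X g n⟩) hH₀t
    haveI : IsIso H₀.hom := htriv
    haveI : Subsingleton ↥(Spec (CommRingCat.of K)) := inferInstanceAs (Subsingleton (PrimeSpectrum K))
    haveI : Subsingleton ↥H₀.left := (Scheme.homeoOfIso (asIso H₀.hom)).injective.subsingleton
    haveI : Subsingleton ↥(Set.range j.left) := ⟨fun ⟨a, x, hx⟩ ⟨b, y, hy⟩ =>
      Subtype.ext (by subst hx; subst hy; rw [Subsingleton.elim x y])⟩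
    obtain ⟨x⟩ : Nonempty ↥H₀.left := inferInstance
    have hdH : topologicalKrullDim ↥H.left ≤ 0 := by
      rw [← (GrpField.equidimensional H).2 (j.left x) _ j.left.isOpenEmbedding.isOpen_range ⟨x, rfl⟩]
      exact topologicalKrullDim_zero_of_discreteTopology _
    rw [IsHomeomorph.topologicalKrullDim_eq _ z.left.isClosedEmbedding.isEmbedding.toHomeomorph.isHomeomorph, hzi,
      ← IsHomeomorph.topologicalKrullDim_eq _ i.left.isClosedEmbedding.isEmbedding.toHomeomorph.isHomeomorph]
    exact hdH
  · intro hdim
    refine ⟨hG, fun T _ i _ hic hn hT => ?_⟩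
    haveI := hic
    haveI : Mono i := GrpField.SchImg.mono_of_isClosedImmersion i
    have hconn : ∀ s : Spec (CommRingCat.of K),
        ConnectedSpace ↥(pullback G.hom ((Spec (CommRingCat.of K)).fromSpecResidueField s)) := fun s => by
      have h : _root_.IsConnected (G.hom.base ⁻¹' {s}) := by
        haveI : Subsingleton ↥(Spec (CommRingCat.of K)) := inferInstanceAs (Subsingleton (PrimeSpectrum K))
        rw [show G.hom.base ⁻¹' {s} = Set.univ from Set.eq_univ_of_forall fun _ => Subsingleton.elim _ _]
        exact isConnected_univ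
      rw [← G.hom.range_fiberι s] at h
      refine connectedSpace_iff_univ.2 ⟨⟨Classical.choice (Set.range_nonempty_iff_nonempty.1 h.nonempty), trivial⟩, ?_⟩
      exact (G.hom.fiberι s).isEmbedding.isInducing.isPreconnected_image.1 (by rw [Set.image_univ]; exact h.2)
    have hmt := MTBridge.isMultTypeFT_of_isTorus T hT
    have hcomm := S5255.result G T hconn i hmt hn
    obtain ⟨f, hf⟩ := (hz.2.2 T i).2 fun X' x h => by
      rw [Category.comp_id]
      exact (hcomm X' h x).symm
    haveI : IsMonHom f := MTSplit.isMonHom_of_comp_mono f z i hf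
    haveI : IsClosedImmersion (f.left ≫ z.left) := by rw [← Over.comp_left, hf]; exact hic
    haveI : IsClosedImmersion f.left := IsClosedImmersion.of_comp f.left z.left
    haveI := smooth_of_isTorus hT
    haveI := connectedSpace_of_isTorus hT
    haveI := isAffine_of_isTorus hT
    haveI : IsAffineHom T.hom := isAffineHom_of_isAffine T.hom
    have hdT : topologicalKrullDim ↥T.left ≤ 0 :=
      f.left.isClosedEmbedding.isInducing.topologicalKrullDim_le.trans hdim
    let I := 𝟙_ (Over (Spec (CommRingCat.of K)))
    haveI : Subsingleton ↥(Spec (CommRingCat.of K)) := inferInstanceAs (Subsingleton (PrimeSpectrum K))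
    haveI : Subsingleton ↥I.left := inferInstanceAs (Subsingleton (PrimeSpectrum K))
    haveI : Nonempty ↥I.left := inferInstanceAs (Nonempty (PrimeSpectrum K))
    haveI : Smooth I.hom := inferInstanceAs (Smooth (𝟙 _))
    haveI : QuasiCompact I.hom := inferInstanceAs (QuasiCompact (𝟙 _))
    haveI : ConnectedSpace I.left := inferInstanceAs (ConnectedSpace (PrimeSpectrum K))
    haveI : IsClosedImmersion η[T].left := by
      haveI : IsClosedImmersion (η[T].left ≫ T.hom) := by
        rw [Over.w η[T]]; exact inferInstanceAs (IsClosedImmersion (𝟙 _))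
      exact IsClosedImmersion.of_comp η[T].left T.hom
    have h0 : topologicalKrullDim ↥I.left = topologicalKrullDim ↥T.left :=
      le_antisymm η[T].left.isClosedEmbedding.isInducing.topologicalKrullDim_le
        (hdT.trans (by
          obtain ⟨a⟩ := (inferInstance : Nonempty ↥I.left)
          haveI : Nonempty (TopologicalSpace.IrreducibleCloseds ↥I.left) :=
            ⟨⟨closure {a}, isIrreducible_singleton.closure, isClosed_closure⟩⟩
          exact Order.krullDim_nonneg))
    haveI := Chev.isIso_of_dim_eq η[T] h0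
    haveI : IsIso η[T].left := inferInstanceAs (IsIso ((Over.forget _).map η[T]))
    show IsIso T.hom
    have : IsIso (η[T].left ≫ T.hom) := by rw [Over.w η[T]]; exact inferInstanceAs (IsIso (𝟙 _))
    exact IsIso.of_isIso_comp_left η[T].left T.hom

/-- Over an open where the group is reductive the semisimple locus is cut out by the centre. -/
theorem isOpen_semisimple_of_chart {S X : Scheme.{u}} (G : Over S) [GrpObj G] [IsAffineHom G.hom] [Smooth G.hom]
    (hconn : ∀ s : S, _root_.IsConnected (G.hom.base ⁻¹' {s})) (u : X ⟶ S) [IsOpenImmersion u]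
    (hred : Red.IsReductive (Red.bc u G)) :
    IsOpen {s : S | s ∈ Set.range u ∧
      Red.IsSemisimpleOver (AlgebraicClosure (S.residueField s)) (Red.geomFibre s G)} := by
  let GX := Red.bc u G
  obtain ⟨Z, _, z, hz, hzc, hZ⟩ := RedCartan.exists_centre_of_isReductive hred
  haveI := hz.1; haveI := hz.2.1; haveI := hzc
  haveI := MTBridge.locallyOfFinitePresentation_of_isMultTypeFT Z hZ
  haveI := MTBridge.flat_of_isMultTypeFT Z hZ
  let d := fun a : X => topologicalKrullDim ↥(Z.hom ⁻¹' {a})
  have key : ∀ a : X, Red.IsSemisimpleOver (AlgebraicClosure (S.residueField (u a))) (Red.geomFibre (u a) G) ↔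
      d a ≤ 0 := by
    intro a
    let t := u a
    let K := AlgebraicClosure (S.residueField t)
    have hr : Set.range (Red.geomPt t) ⊆ Set.range u := by
      rintro _ ⟨x, rfl⟩
      rw [Subsingleton.elim x (IsLocalRing.closedPoint K), MTImage.geomPt_closedPoint]
      exact ⟨a, rfl⟩
    let y := IsOpenImmersion.lift u (Red.geomPt t) hr
    have hy : y ≫ u = Red.geomPt t := IsOpenImmersion.lift_fac _ _ _
    have hya : y (IsLocalRing.closedPoint K) = a := u.isOpenEmbedding.injective (by
      rw [← Scheme.Hom.comp_apply, hy, MTImage.geomPt_closedPoint])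
    let ε : Grp.mk (Red.bc y GX) ≅ Grp.mk (Red.geomFibre t G) :=
      (MTBridge.bcComp u y G).symm ≪≫ MTBridge.bcCongr hy G
    let eH : Red.bc y GX ≅ Red.geomFibre t G := (Grp.forget _).mapIso ε
    haveI : IsMonHom eH.hom := ε.hom.hom.isMonHom_hom
    haveI : IsIso eH.hom.left := inferInstanceAs (IsIso ((Over.forget _).map eH.hom))
    haveI : IsClosedImmersion ((Over.pullback y).map z).left :=
      MorphismProperty.of_isPullback (P := @IsClosedImmersion) (MTImage.isPullback_map z y) hzc
    haveI : IsClosedImmersion ((Over.pullback y).map z ≫ eH.hom).left :=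
      inferInstanceAs (IsClosedImmersion (((Over.pullback y).map z).left ≫ eH.hom.left))
    have hc : Red.IsCentre ((Over.pullback y).map z ≫ eH.hom) := isCentre_comp_iso _ (by
      have h := Chev.CentBC.isCentralizerOf_bc y (𝟙 GX) z hz
      rwa [CategoryTheory.Functor.map_id] at h) eH
    have hG : Red.IsReductiveOver K (Red.geomFibre t G) := by
      haveI : IsAffineHom (Red.geomFibre t G).hom := inferInstanceAs (IsAffineHom (pullback.snd G.hom _))
      refine ⟨isAffine_of_isAffineHom (Red.geomFibre t G).hom, inferInstanceAs (Smooth (pullback.snd G.hom _)),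
        TorusLift.connectedSpace_bc_geom hconn _, ?_⟩
      refine (noUni_bc_iff G (Red.geomPt a ≫ u) (Red.geomPt t) ?_).1
        (noUni_of_iso (MTBridge.bcComp u (Red.geomPt a) G).symm (hred.2.2 a).2.2.2)
      rw [Scheme.Hom.comp_apply, MTImage.geomPt_closedPoint, MTImage.geomPt_closedPoint]
    have h := isSemisimpleOver_iff_centre hG _ hc
    rw [MTImage.dim_bc_point y Z, hya] at h
    exact h
  have hset : {s : S | s ∈ Set.range u ∧
      Red.IsSemisimpleOver (AlgebraicClosure (S.residueField s)) (Red.geomFibre s G)} = u '' (d ⁻¹' Set.Iic 0) := by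
    ext s
    constructor
    · rintro ⟨⟨a, rfl⟩, h⟩
      exact ⟨a, (key a).1 h, rfl⟩
    · rintro ⟨a, ha, rfl⟩
      exact ⟨⟨a, rfl⟩, (key a).2 ha⟩
  rw [hset]
  exact u.isOpenEmbedding.isOpenMap _ (GrpDim.isLocallyConstant_dim Z _)

/-- The semisimple locus is open. -/
theorem isOpen_semisimple {S : Scheme.{u}} (G : Over S) [GrpObj G] [IsAffineHom G.hom] [Smooth G.hom]
    (hconn : ∀ s : S, _root_.IsConnected (G.hom.base ⁻¹' {s})) :
    IsOpen {s : S | Red.IsSemisimpleOver (AlgebraicClosure (S.residueField s)) (Red.geomFibre s G)} := by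
  refine isOpen_iff_forall_mem_open.2 fun s hs => ?_
  obtain ⟨A, _, u, hu, hsu, hred, -⟩ := S3002.result S G hconn s hs.1
  haveI := hu
  exact ⟨_, fun t ht => ht.2, isOpen_semisimple_of_chart G hconn u hred, hsu, hs⟩

end Groth.Agent.RedOpen
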