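import Groth.Agent.RedOpen.Link
import Groth.Agent.TorusLift.Family

/-!
# The locus of trivial unipotent radical is open
-/

set_option autoImplicit false
set_option backward.isDefEq.respectTransparency false
set_option linter.style.haveILetI false
set_option linter.unusedSectionVars false
set_option maxHeartbeats 1000000
set_option synthInstance.maxHeartbeats 200000

universe u

open CategoryTheory CategoryTheory.Limits MonoidalCategory CartesianMonoidalCategory AlgebraicGeometry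
open TensorProduct
open scoped CategoryTheory.Obj MonObj
open Groth.Agent.MTBridge

noncomputable section

namespace Groth.Agent.RedOpen

/-- In a model the criterion computes the clause at any geometric point. -/
theorem noUni_iff_mem_goodSet {R₀ A : Type u} [CommRing R₀] [CommRing A] [HopfAlgebra R₀ A] [Algebra.Smooth R₀ A]
    {K : Type u} [Field K] [IsAlgClosed K] [Algebra R₀ K] {H : Over (Spec (CommRingCat.of K))} [GrpObj H]
    (ε : Grp.mk H ≅ specGrp K (K ⊗[R₀] A)) {p : PrimeSpectrum R₀}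
    (hp : RingHom.ker (algebraMap R₀ K) = p.asIdeal) :
    NoUni H ↔ p ∈ goodSet R₀ A := by
  let e : (specGrp K (K ⊗[R₀] A)).X ≅ H := ((Grp.forget _).mapIso ε).symm
  haveI : IsMonHom e.hom := ε.inv.hom.isMonHom_hom
  obtain ⟨φ⟩ := exists_hom_of_ker (p := p.asIdeal) (L := K) hp
  exact ⟨fun h => good_of_ext φ (good_of_noUni e h), fun h => noUni_of_good e (good_of_hom φ h)⟩

/-- Over an affine open a model computes the clause at all geometric points. -/
theorem exists_chart {S : Scheme.{u}} (G : Over S) [GrpObj G] [IsAffineHom G.hom] [Smooth G.hom] {V : S.Opens}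
    (hV : IsAffineOpen V) :
    ∃ P : Set ↥(Spec Γ(S, V)), IsOpen P ∧ ∀ (K : Type u) [Field K] [IsAlgClosed K] (y : Spec (CommRingCat.of K) ⟶ S),
      y (IsLocalRing.closedPoint K) ∈ V →
        ∃ v, hV.fromSpec v = y (IsLocalRing.closedPoint K) ∧ (NoUni (Red.bc y G) ↔ v ∈ P) := by
  let GV := Red.bc hV.fromSpec G
  haveI : Smooth GV.hom := inferInstanceAs (Smooth (pullback.snd G.hom hV.fromSpec))
  haveI : IsAffineHom GV.hom := inferInstanceAs (IsAffineHom (pullback.snd G.hom hV.fromSpec))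
  obtain ⟨R₀, A, _, _, _, _, _, hA, ⟨eG⟩⟩ := TorusLift.exists_model (R := Γ(S, V)) GV
  let f : Spec Γ(S, V) ⟶ Spec (CommRingCat.of R₀) := Spec.map (CommRingCat.ofHom (algebraMap R₀ Γ(S, V)))
  refine ⟨f ⁻¹' goodSet R₀ A, isOpen_goodSet.preimage f.continuous, fun K _ _ y hy => ?_⟩
  have hr : Set.range y ⊆ Set.range hV.fromSpec := by
    rintro _ ⟨x, rfl⟩
    rw [Subsingleton.elim x (IsLocalRing.closedPoint K), hV.range_fromSpec]
    exact hy
  let y' := IsOpenImmersion.lift hV.fromSpec y hr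
  have hy' : y' ≫ hV.fromSpec = y := IsOpenImmersion.lift_fac _ _ _
  refine ⟨y' (IsLocalRing.closedPoint K), by rw [← Scheme.Hom.comp_apply, hy'], ?_⟩
  let θ := Spec.preimage (y' ≫ f)
  letI : Algebra R₀ K := θ.hom.toAlgebra
  have hθ : y' ≫ f = Spec.map (CommRingCat.ofHom (algebraMap R₀ K)) := (Spec.map_preimage _).symm
  obtain ⟨ε⟩ := TorusLift.nonempty_bc_model GV eG (L := K) y' hθ
  let ε' : Grp.mk (Red.bc y G) ≅ specGrp K (K ⊗[R₀] A) := bcCongr hy'.symm G ≪≫ bcComp hV.fromSpec y' G ≪≫ ε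
  refine noUni_iff_mem_goodSet (p := f (y' (IsLocalRing.closedPoint K))) ε' ?_
  rw [← Scheme.Hom.comp_apply, hθ]
  show RingHom.ker (algebraMap R₀ K) = (IsLocalRing.maximalIdeal K).comap (algebraMap R₀ K)
  rw [IsLocalRing.maximalIdeal_eq_bot]
  rfl

/-- The clause only depends on the point under a geometric point. -/
theorem noUni_bc_iff {S : Scheme.{u}} (G : Over S) [GrpObj G] [IsAffineHom G.hom] [Smooth G.hom]
    {K L : Type u} [Field K] [IsAlgClosed K] [Field L] [IsAlgClosed L] (y : Spec (CommRingCat.of K) ⟶ S)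
    (y' : Spec (CommRingCat.of L) ⟶ S) (h : y (IsLocalRing.closedPoint K) = y' (IsLocalRing.closedPoint L)) :
    NoUni (Red.bc y G) ↔ NoUni (Red.bc y' G) := by
  obtain ⟨_, ⟨V, hV, rfl⟩, hsV, -⟩ := S.isBasis_affineOpens.exists_subset_of_mem_open
    (Set.mem_univ (y (IsLocalRing.closedPoint K))) isOpen_univ
  obtain ⟨P, -, hP⟩ := exists_chart G hV
  obtain ⟨v, hv, h1⟩ := hP K y hsV
  obtain ⟨w, hw, h2⟩ := hP L y' (h ▸ hsV)
  rw [h1, h2, hV.fromSpec.isOpenEmbedding.injective (hv.trans (h.trans hw.symm))]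

/-- **The locus of trivial unipotent radical of a smooth affine group is open.** -/
theorem isOpen_noUni {S : Scheme.{u}} (G : Over S) [GrpObj G] [IsAffineHom G.hom] [Smooth G.hom] :
    IsOpen {s : S | NoUni (Red.geomFibre s G)} := by
  refine isOpen_iff_forall_mem_open.2 fun s hs => ?_
  obtain ⟨_, ⟨V, hV, rfl⟩, hsV, -⟩ := S.isBasis_affineOpens.exists_subset_of_mem_open (Set.mem_univ s) isOpen_univ
  obtain ⟨P, hPo, hP⟩ := exists_chart G hV
  have key : ∀ t : S, t ∈ V → ∃ v, hV.fromSpec v = t ∧ (NoUni (Red.geomFibre t G) ↔ v ∈ P) := fun t ht => by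
    obtain ⟨v, hv, h⟩ := hP _ (Red.geomPt t) (by rw [MTImage.geomPt_closedPoint]; exact ht)
    exact ⟨v, hv.trans (MTImage.geomPt_closedPoint t), h⟩
  refine ⟨hV.fromSpec '' P, ?_, hV.fromSpec.isOpenEmbedding.isOpenMap _ hPo, ?_⟩
  · rintro _ ⟨v, hv, rfl⟩
    obtain ⟨v', hv', h⟩ := key _ (by rw [← SetLike.mem_coe, ← hV.range_fromSpec]; exact ⟨v, rfl⟩)
    exact h.2 (hV.fromSpec.isOpenEmbedding.injective hv' ▸ hv)
  · obtain ⟨v, hv, h⟩ := key s hsV
    exact ⟨v, h.1 hs, hv⟩

end Groth.Agent.RedOpen
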