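import Groth.Agent.RedOpen.Open
import Groth.Agent.RedCartan.Cartan
import Groth.Agent.Chev.BorelCover
import Groth.Agent.Comod.Reductive
import Groth.Agent.Chev.SolvTorus
import Groth.Agent.S5423

/-!
# The criterion and trivial unipotent radical
-/

set_option autoImplicit false
set_option backward.isDefEq.respectTransparency false
set_option linter.style.haveILetI false
set_option linter.unusedSectionVars false
set_option maxHeartbeats 1000000
set_option synthInstance.maxHeartbeats 200000

universe u

open CategoryTheory CategoryTheory.Limits MonoidalCategory CartesianMonoidalCategory MonObj GrpObj AlgebraicGeometry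
open TensorProduct WithConv
open scoped Groth.Agent.Takeuchi
open Groth.Agent.SubGen (rpt map_rpt exists_rpt)
open Groth.Agent.MTBridge (specGrp)

noncomputable section

namespace Groth.Agent.RedOpen

open Chev Chev.BorelFixed Chev.Borel

/-- A matrix multiplicative on points is a corepresentation. -/
theorem isCorep_of_points {k : Type u} [Field k] [IsAlgClosed k] {A : Type u} [CommRing A] [HopfAlgebra k A]
    [Algebra.FiniteType k A] [IsReduced A] {n : Type} [Fintype n] [DecidableEq n] {N : Matrix n n A}
    (hmul : ∀ g h : Pts k A k, N.map (g * h).ofConv = N.map g.ofConv * N.map h.ofConv)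
    (hone : N.map (1 : Pts k A k).ofConv = 1) : Comod.IsCorep (k := k) N := by
  haveI : IsReduced (A ⊗[k] A) := FinHopf.isReduced_tensor_of_algClosed k A A
  haveI : Algebra.FiniteType k (A ⊗[k] A) := Algebra.FiniteType.trans (S := A) inferInstance inferInstance
  constructor
  · ext i j
    rw [← sub_eq_zero]
    refine eq_zero_of_forall_hom (K := k) fun g => ?_
    let g₁ : Pts k A k := toConv (g.comp Algebra.TensorProduct.includeLeft)
    let g₂ : Pts k A k := toConv (g.comp Algebra.TensorProduct.includeRight)
    have hlift : ∀ z, Algebra.TensorProduct.lift g₁.ofConv g₂.ofConv (fun _ _ => Commute.all _ _) z = g z := by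
      refine DFunLike.congr_fun (Algebra.TensorProduct.ext (AlgHom.ext fun a => ?_) (AlgHom.ext fun a => ?_))
      · simp [g₁, g₂]
      · simp [g₁, g₂]
    have h1 := congrFun (congrFun (hmul g₁ g₂) i) j
    simp only [Matrix.map_apply, Matrix.mul_apply] at h1
    rw [show (g₁ * g₂).ofConv (N i j) = g (Coalgebra.comul (R := k) (N i j)) from
      (Takeuchi.mul_apply g₁ g₂ (N i j)).trans (hlift _)] at h1
    rw [map_sub, sub_eq_zero]
    simp only [Matrix.map_apply, Bialgebra.comulAlgHom_apply, Matrix.mul_apply, map_sum, map_mul]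
    exact h1
  · ext i j
    have h1 := congrFun (congrFun hone i) j
    rw [Matrix.map_apply] at h1
    show Coalgebra.counit (R := k) (N i j) = _
    exact (Takeuchi.one_apply (R := k) (N i j)).symm.trans h1

variable {k : Type u} [Field k] [IsAlgClosed k]

section Reg

variable {G : Over (Spec (CommRingCat.of k))} [GrpObj G] {A : Type u} [CommRing A] [HopfAlgebra k A]

/-- Points of a unipotent group act unipotently in regular representations. -/
theorem isNilpotent_of_isUnipotent [Algebra.FiniteType k A] [IsReduced A] (hU : HopfRep.IsUnipotent k A)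
    (e : (specGrp k A).X ≅ G) [IsMonHom e.hom] {V : Type u} [AddCommGroup V] [Module k V] [FiniteDimensional k V]
    {ρ : RP G →* Module.End k V} (hρ : RedCartan.IsRegular e ρ) (g : RP G) : IsNilpotent (ρ g - 1) := by
  classical
  let b := Module.finBasis k V
  let E := LinearMap.toMatrixAlgEquiv b
  choose x hx using fun i j => hρ (b.coord i) (b j)
  let N : Matrix _ _ A := fun i j => x i j
  have hN : ∀ p : RP G, N.map (ProjRep.ptsEquiv e p).ofConv = E (ρ p) := fun p => by
    ext i j
    rw [LinearMap.toMatrixAlgEquiv_apply]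
    exact hx i j p
  have hN' : ∀ φ : Pts k A k, N.map φ.ofConv = E (ρ ((ProjRep.ptsEquiv e).symm φ)) := fun φ => by
    rw [← hN, MulEquiv.apply_symm_apply]
  have hcorep : Comod.IsCorep (k := k) N := isCorep_of_points
    (fun a c => by rw [hN', hN', hN', map_mul, map_mul, map_mul])
    (by rw [hN', map_one, map_one, map_one])
  letI cV := Comod.ofCorep b hcorep
  have h := (S5423.result k A).1 hU (ProjRep.ptsEquiv e g).ofConv V inferInstance
  have hact : HopfRep.Comod.act k A V (ProjRep.ptsEquiv e g).ofConv = ρ g := b.ext fun j => by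
    have h1 : HopfRep.Comod.act k A V (ProjRep.ptsEquiv e g).ofConv (b j) =
        ∑ i, (ProjRep.ptsEquiv e g).ofConv (N i j) • b i := by
      show (TensorProduct.rid k V) (LinearMap.lTensor V _ (b.constr k (fun j => ∑ i, b i ⊗ₜ[k] N i j) (b j))) = _
      rw [Module.Basis.constr_basis]
      simp
    rw [h1, ← b.sum_repr (ρ g (b j))]
    refine Finset.sum_congr rfl fun i _ => ?_
    congr 1
    exact hx i j g
  rw [hact] at h
  exact h

end Reg

/-- A connected solvable group without subtori is unipotent. -/
theorem isUnipotent_of_solvable (B : Over (Spec (CommRingCat.of k))) [GrpObj B] [IsAffine B.left] [Smooth B.hom]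
    [ConnectedSpace B.left] [Group.IsSolvable (RP B)] (hB : Red.HasNoSubtorus k B) :
    ∃ (A : Type u) (_ : CommRing A) (_ : HopfAlgebra k A) (e : (specGrp k A).X ≅ B) (_ : IsMonHom e.hom),
      Algebra.FiniteType k A ∧ IsReduced A ∧ HopfRep.IsUnipotent k A := by
  obtain ⟨A, hA, e, he⟩ := FinHopf.exists_hopf (R := CommRingCat.of k) B
  haveI := he
  haveI : IsIso e.hom.left := inferInstanceAs (IsIso ((Over.forget _).map e.hom))
  haveI : Algebra.FiniteType k A := by
    have h0 : LocallyOfFiniteType (e.hom.left ≫ B.hom) := inferInstance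
    rw [Over.w e.hom] at h0
    exact RingHom.finiteType_algebraMap.1 ((HasRingHomProperty.Spec_iff (P := @LocallyOfFiniteType)).1 h0)
  haveI : IsDomain A := isDomain_of_smooth_connected e
  haveI : Group.IsSolvable (Takeuchi.Pt k A k) :=
    Group.isSolvable_of_surjective (f := (ProjRep.ptsEquiv e).toMonoidHom) (ProjRep.ptsEquiv e).surjective
  have htrig := Groth.Agent.S3266.result k A fun x hx => IsIdempotentElem.iff_eq_zero_or_one.1 hx
  obtain ⟨C, hCc, hCh, ψ, J, hJh, hψ, hdiag, hJ, hU⟩ := (Groth.Agent.S7967.result k A).1 htrig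
  haveI := hJh
  have hC : SGA3b.IsDiag k C := MultT.isDiag_of_span hdiag
  obtain ⟨r, hr⟩ := Groth.Agent.S4128.result k A C hC ψ hψ J hJ hU
  have hrψ : ∀ b, r (ψ b) = b := DFunLike.congr_fun hr
  have hrs : Function.Surjective r := fun b => ⟨ψ b, hrψ b⟩
  haveI : Algebra.FiniteType k C := Algebra.FiniteType.of_surjective (r : A →ₐ[k] C) hrs
  haveI : IsDomain C := hψ.isDomain (ψ : C →ₐ[k] A).toRingHom
  let T := (Spec (CommRingCat.of C)).asOver (Spec (CommRingCat.of k))
  let rT : T ⟶ (Spec (CommRingCat.of A)).asOver (Spec (CommRingCat.of k)) :=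
    Spec.mapMulEquiv (toConv (r : A →ₐ[k] C))
  haveI : IsMonHom rT :=
    ((hopfSpec (CommRingCat.of k)).map (CommHopfAlgCat.ofHom (X := A) (Y := C) r).op).hom.isMonHom_hom
  haveI : IsClosedImmersion rT.left :=
    IsClosedImmersion.spec_of_surjective (CommRingCat.ofHom (r : A →ₐ[k] C).toRingHom) hrs
  haveI : IsClosedImmersion (rT ≫ e.hom).left := inferInstanceAs (IsClosedImmersion (rT.left ≫ e.hom.left))
  haveI : Mono (rT ≫ e.hom) := GrpField.SchImg.mono_of_isClosedImmersion _
  have htriv : IsIso T.hom := hB T (rT ≫ e.hom) (isTorus_spec hC)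
  have hbij : Function.Bijective (algebraMap k C) := by
    haveI : IsIso (Spec.map (CommRingCat.ofHom (algebraMap k C))) := htriv
    haveI : IsIso (Scheme.Spec.map (CommRingCat.ofHom (algebraMap k C)).op) := htriv
    haveI : IsIso (CommRingCat.ofHom (algebraMap k C)).op := isIso_of_reflects_iso _ Scheme.Spec
    haveI : IsIso (CommRingCat.ofHom (algebraMap k C)) := isIso_of_op _
    exact ConcreteCategory.bijective_of_isIso (CommRingCat.ofHom (algebraMap k C))
  have hJ0 : J = ⊥ := by
    rw [hJ, Ideal.map_eq_bot_iff_le_ker]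
    intro c hc
    obtain ⟨a, rfl⟩ := hbij.2 c
    have ha : a = 0 := by
      have := RingHom.mem_ker.1 hc
      simpa using this
    simp [ha]
  have hbj : Function.Bijective (Bialgebra.Quotient.mkBialgHom (R := k) J) :=
    ⟨fun a b hab => sub_eq_zero.1 (by
      have := Ideal.Quotient.eq.1 hab
      rwa [hJ0, Ideal.mem_bot] at this), Ideal.Quotient.mk_surjective⟩
  let bj := BialgEquiv.ofBijective (Bialgebra.Quotient.mkBialgHom (R := k) J) hbj
  exact ⟨A, inferInstance, inferInstance, e, he, inferInstance, inferInstance,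
    Chev.SolvHopf.isUnipotent_of_bijective (bj.symm : (A ⧸ J) →ₐc[k] A) bj.symm.bijective hU⟩

/-- Rational points of a connected group without subtori act unipotently in regular representations. -/
theorem isNilpotent_of_noSubtorus {U : Over (Spec (CommRingCat.of k))} [GrpObj U] [IsAffine U.left] [Smooth U.hom]
    [ConnectedSpace U.left] (hU : Red.HasNoSubtorus k U) {A : Type u} [CommRing A] [HopfAlgebra k A]
    (e : (specGrp k A).X ≅ U) [IsMonHom e.hom] {V : Type u} [AddCommGroup V] [Module k V] [FiniteDimensional k V]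
    {ρ : RP U →* Module.End k V} (hρ : RedCartan.IsRegular e ρ) (g : RP U) : IsNilpotent (ρ g - 1) := by
  obtain ⟨B, hBg, b, hb, -⟩ := exists_borel_proper U
  obtain ⟨hbm, hbc, hbs, hbconn, hsol, -⟩ := id hb
  haveI := hbm; haveI := hbc; haveI := hbs; haveI := hbconn
  haveI : IsAffine B.left := isAffine_of_isAffineHom b.left
  haveI : Group.IsSolvable (RP B) := isSolvable_rp hsol
  haveI : Mono b := GrpField.SchImg.mono_of_isClosedImmersion b
  have hB : Red.HasNoSubtorus k B := fun T _ j _ _ hT => hU T (j ≫ b) hT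
  obtain ⟨A', _, _, e', he', hft, hred, hA'⟩ := isUnipotent_of_solvable B hB
  haveI := he'; haveI := hft; haveI := hred
  obtain ⟨x, y, rfl⟩ := exists_conj_mem_borel b hb g
  obtain ⟨N, hN⟩ := isNilpotent_of_isUnipotent hA' e' (hρ.comp e' b) y
  refine ⟨N, ?_⟩
  let uu : (Module.End k V)ˣ := ⟨ρ x, ρ x⁻¹, by rw [← map_mul, mul_inv_cancel, map_one],
    by rw [← map_mul, inv_mul_cancel, map_one]⟩
  have h1 : ρ (x * (y ≫ b) * x⁻¹) - 1 = (uu : Module.End k V) * (ρ (y ≫ b) - 1) * ((uu⁻¹ : (Module.End k V)ˣ) : Module.End k V) := by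
    rw [map_mul, map_mul, mul_sub, sub_mul, _root_.mul_one, Units.mul_inv]
    rfl
  rw [h1, Units.conj_pow, show (ρ (y ≫ b) - 1) ^ N = 0 from hN]
  simp

end Groth.Agent.RedOpen
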