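import Groth.Agent.RedOpen.Witness
import Groth.Agent.GeomConn.Basic

/-!
# The irreducible component through the unit of a uniformly unipotent normal subgroup
-/

set_option autoImplicit false
set_option linter.style.haveILetI false
set_option linter.unusedSectionVars false

universe u v

open TensorProduct WithConv
open scoped Groth.Agent.Takeuchi

noncomputable section

namespace Groth.Agent.RedOpen

/-- Over an algebraically closed field, the tensor product of two domains of finite type is a domain. -/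
theorem isDomain_tensor_ft {k B C : Type u} [Field k] [IsAlgClosed k] [CommRing B] [IsDomain B] [Algebra k B]
    [Algebra.FiniteType k B] [CommRing C] [IsDomain C] [Algebra k C] : IsDomain (B ⊗[k] C) := by
  let L := FractionRing C
  haveI : IsDomain (B ⊗[k] L) := GeomConn.isDomain_tensor_fg
  let f : B ⊗[k] C →ₐ[k] B ⊗[k] L := Algebra.TensorProduct.map (AlgHom.id k B) (IsScalarTower.toAlgHom k C L)
  have hf : Function.Injective f := by
    show Function.Injective ((IsScalarTower.toAlgHom k C L).toLinearMap.lTensor B)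
    exact Module.Flat.lTensor_preserves_injective_linearMap _ (IsFractionRing.injective C L)
  exact hf.isDomain f.toRingHom

variable {R A : Type u} [CommRing R] [CommRing A] [HopfAlgebra R A] {K : Type u} [Field K] [Algebra R K]

variable (R A K) in
/-- The universal point of the functions with coefficients. -/
def idPt : Pts R A (K ⊗[R] A) := toConv Algebra.TensorProduct.includeRight

/-- A constant point. -/
def cPt (g : Pts R A K) : Pts R A (K ⊗[R] A) :=
  push (Algebra.TensorProduct.includeLeft : K →ₐ[R] K ⊗[R] A) g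

theorem push_ev_idPt {T : Type u} [CommRing T] [Algebra R T] [Algebra K T] [IsScalarTower R K T] (u : Pts R A T) :
    push ((ev (B := K) u).restrictScalars R) (idPt R A K) = u :=
  WithConv.ext (AlgHom.ext fun a => by simp [idPt])

theorem push_ev_cPt {T : Type u} [CommRing T] [Algebra R T] [Algebra K T] [IsScalarTower R K T] (u : Pts R A T)
    (g : Pts R A K) :
    push ((ev (B := K) u).restrictScalars R) (cPt g) = push (IsScalarTower.toAlgHom R K T) g :=
  WithConv.ext (AlgHom.ext fun a => by simp [cPt])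

theorem push_toAlgHom_self (g : Pts R A K) : push (IsScalarTower.toAlgHom R K K) g = g :=
  WithConv.ext (AlgHom.ext fun a => by simp)

/-- Left translation on functions. -/
def trL (g : Pts R A K) : K ⊗[R] A →ₐ[K] K ⊗[R] A := ev (cPt g * idPt R A K)

/-- Right translation on functions. -/
def trR (g : Pts R A K) : K ⊗[R] A →ₐ[K] K ⊗[R] A := ev (idPt R A K * cPt g)

/-- Conjugation on functions. -/
def trC (g : Pts R A K) : K ⊗[R] A →ₐ[K] K ⊗[R] A := ev (cPt g * idPt R A K * (cPt g)⁻¹)

theorem ev_trL (g u : Pts R A K) (x : K ⊗[R] A) : ev u (trL g x) = ev (g * u) x := by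
  rw [trL, ← ev_push, map_mul, push_ev_idPt, push_ev_cPt, push_toAlgHom_self]

theorem ev_trR (g u : Pts R A K) (x : K ⊗[R] A) : ev u (trR g x) = ev (u * g) x := by
  rw [trR, ← ev_push, map_mul, push_ev_idPt, push_ev_cPt, push_toAlgHom_self]

theorem ev_trC (g u : Pts R A K) (x : K ⊗[R] A) : ev u (trC g x) = ev (g * u * g⁻¹) x := by
  rw [trC, ← ev_push, map_mul, map_mul, map_inv, push_ev_idPt, push_ev_cPt, push_toAlgHom_self]

/-- The zeros of an ideal. -/
def zeros (I : Ideal (K ⊗[R] A)) : Set (Pts R A K) := {u | I ≤ RingHom.ker (ev (B := K) u)}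

/-- The functions vanishing on a set of points. -/
def vanish (S : Set (Pts R A K)) : Ideal (K ⊗[R] A) := ⨅ h ∈ S, RingHom.ker (ev (B := K) h)

theorem mem_vanish {S : Set (Pts R A K)} {x : K ⊗[R] A} : x ∈ vanish S ↔ ∀ h ∈ S, ev h x = 0 := by
  simp [vanish, Ideal.mem_iInf, RingHom.mem_ker]

theorem subset_zeros_vanish (S : Set (Pts R A K)) : S ⊆ zeros (vanish S) :=
  fun h hh _ hx => RingHom.mem_ker.2 (mem_vanish.1 hx h hh)

theorem mul_mem_zeros_vanish {S : Submonoid (Pts R A K)} {x y : Pts R A K}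
    (hx : x ∈ zeros (vanish (S : Set (Pts R A K)))) (hy : y ∈ zeros (vanish (S : Set (Pts R A K)))) :
    x * y ∈ zeros (vanish (S : Set (Pts R A K))) := by
  have h1 : ∀ h ∈ S, h * y ∈ zeros (vanish (S : Set (Pts R A K))) := fun h hh f hf => by
    rw [RingHom.mem_ker, ← ev_trL]
    refine RingHom.mem_ker.1 (hy (mem_vanish.2 fun h' hh' => ?_))
    rw [ev_trL]
    exact mem_vanish.1 hf _ (mul_mem hh hh')
  intro f hf
  rw [RingHom.mem_ker, ← ev_trR]
  refine RingHom.mem_ker.1 (hx (mem_vanish.2 fun h hh => ?_))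
  rw [ev_trR]
  exact RingHom.mem_ker.1 (h1 h hh hf)

theorem IsUni.zeros_vanish {S : Set (Pts R A K)} (hS : IsUni S) : IsUni (zeros (vanish S)) := by
  intro a
  obtain ⟨D, hD⟩ := hS a
  refine ⟨D, fun z hz => ?_⟩
  funext m
  let seq : ℕ → K ⊗[R] A := fun i => (idPt R A K ^ i).ofConv a
  have key : ∀ u : Pts R A K,
      ev u ((fwdDiff 1)^[D] seq m) = (fwdDiff 1)^[D] (fun i => (u ^ i).ofConv a) m := fun u => by
    refine (iter_map (ev (B := K) u).toAddMonoidHom D seq m).trans ?_
    have he : (fun i => (ev (B := K) u).toAddMonoidHom (seq i)) = fun i => (u ^ i).ofConv a := by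
      funext i
      show ev u ((idPt R A K ^ i).ofConv a) = (u ^ i).ofConv a
      conv_rhs => rw [← push_ev_idPt (K := K) (T := K) u, ← map_pow]
      rfl
    exact congrFun (congrArg _ he) m
  show _ = (0 : K)
  rw [← key]
  exact RingHom.mem_ker.1 (hz (mem_vanish.2 fun h hh => by rw [key]; exact congrFun (hD h hh) m))

variable [IsAlgClosed K] [Algebra.FiniteType R A] [IsReduced (K ⊗[R] A)]

theorem eq_zero_of_ev {x : K ⊗[R] A} (h : ∀ u : Pts R A K, ev u x = 0) : x = 0 := by
  refine eq_zero_of_forall_hom (K := K) fun g => ?_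
  rw [← ev_restrict g]
  exact h _

theorem mem_of_zeros {Q : Ideal (K ⊗[R] A)} [Q.IsPrime] {x : K ⊗[R] A}
    (h : ∀ u ∈ zeros Q, ev u x = 0) : x ∈ Q := by
  rw [← Ideal.Quotient.eq_zero_iff_mem]
  refine eq_zero_of_forall_hom (K := K) fun g => ?_
  let g' : K ⊗[R] A →ₐ[K] K := g.comp (Ideal.Quotient.mkₐ K Q)
  have h1 := h (toConv ((g'.restrictScalars R).comp Algebra.TensorProduct.includeRight)) fun z hz => by
    rw [RingHom.mem_ker, ev_restrict]
    show g (Ideal.Quotient.mk Q z) = 0
    rw [Ideal.Quotient.eq_zero_iff_mem.2 hz, map_zero]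
  rwa [ev_restrict] at h1

/-- The points of an infinite prime. -/
theorem eq_ker_of_finite {Q : Ideal (K ⊗[R] A)} [Q.IsPrime] (h : (zeros Q).Finite) {z : Pts R A K}
    (hz : z ∈ zeros Q) : Q = RingHom.ker (ev (B := K) z) := by
  haveI := isIntegral_of_finite Q h
  haveI : Q.IsMaximal := Ideal.Quotient.maximal_of_isField _
    (isField_of_isIntegral_of_isField' (R := K) (S := (K ⊗[R] A) ⧸ Q) (Field.toIsField K))
  exact Ideal.IsMaximal.eq_of_le inferInstance (RingHom.ker_ne_top _) hz

theorem isPrime_vanish_mul_aux {B C : Type u} [CommRing B] [IsDomain B] [Algebra K B] [Algebra R B]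
    [IsScalarTower R K B] [Algebra.FiniteType K B] [CommRing C] [IsDomain C] [Algebra K C] [Algebra R C]
    [IsScalarTower R K C] [Algebra.FiniteType K C] (p : K ⊗[R] A →ₐ[K] B) (q : K ⊗[R] A →ₐ[K] C)
    (hp : Function.Surjective p) (hq : Function.Surjective q) :
    (vanish (Set.image2 (· * ·) (zeros (RingHom.ker p)) (zeros (RingHom.ker q)) : Set (Pts R A K))).IsPrime := by
  haveI : IsDomain (B ⊗[K] C) := isDomain_tensor_ft
  haveI : Algebra.FiniteType K (B ⊗[K] C) := Algebra.FiniteType.trans (S := B) inferInstance inferInstance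
  let l : K ⊗[R] A →ₐ[K] B ⊗[K] C := Algebra.TensorProduct.includeLeft.comp p
  let r : K ⊗[R] A →ₐ[K] B ⊗[K] C := Algebra.TensorProduct.includeRight.comp q
  let Θ : K ⊗[R] A →ₐ[K] B ⊗[K] C :=
    ev (B := K) (push (l.restrictScalars R) (idPt R A K) * push (r.restrictScalars R) (idPt R A K))
  have h : vanish (Set.image2 (· * ·) (zeros (RingHom.ker p)) (zeros (RingHom.ker q)) : Set (Pts R A K)) =
      RingHom.ker Θ := by
    refine le_antisymm (fun f hf => ?_) (fun f hf => ?_)
    · rw [RingHom.mem_ker]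
      refine eq_zero_of_forall_hom (K := K) fun g => ?_
      rw [← ev_push, map_mul]
      refine mem_vanish.1 hf _ (Set.mem_image2_of_mem (fun z hz => ?_) fun z hz => ?_)
      · have he : push (g.restrictScalars R) (push (l.restrictScalars R) (idPt R A K)) =
            toConv (((g.comp l).restrictScalars R).comp Algebra.TensorProduct.includeRight) :=
          WithConv.ext (AlgHom.ext fun a => rfl)
        rw [RingHom.mem_ker, he, ev_restrict]
        simp [l, RingHom.mem_ker.1 hz]
      · have he : push (g.restrictScalars R) (push (r.restrictScalars R) (idPt R A K)) =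
            toConv (((g.comp r).restrictScalars R).comp Algebra.TensorProduct.includeRight) :=
          WithConv.ext (AlgHom.ext fun a => rfl)
        rw [RingHom.mem_ker, he, ev_restrict]
        simp [r, RingHom.mem_ker.1 hz]
    · refine mem_vanish.2 ?_
      rintro _ ⟨x, hx, y, hy, rfl⟩
      let π : B ⊗[K] C →ₐ[K] K := Algebra.TensorProduct.lift (p.liftOfSurjective hp (ev x) hx)
        (q.liftOfSurjective hq (ev y) hy) fun _ _ => Commute.all _ _
      have hl : π.comp l = ev x := AlgHom.ext fun a => by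
        simpa [π, l] using AlgHom.congr_fun (AlgHom.liftOfSurjective_comp p hp (ev x) hx) a
      have hr : π.comp r = ev y := AlgHom.ext fun a => by
        simpa [π, r] using AlgHom.congr_fun (AlgHom.liftOfSurjective_comp q hq (ev y) hy) a
      have hx' : push (π.restrictScalars R) (push (l.restrictScalars R) (idPt R A K)) = x :=
        WithConv.ext (AlgHom.ext fun a => by
          show (π.comp l) ((1 : K) ⊗ₜ[R] a) = _
          rw [hl]; simp)
      have hy' : push (π.restrictScalars R) (push (r.restrictScalars R) (idPt R A K)) = y :=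
        WithConv.ext (AlgHom.ext fun a => by
          show (π.comp r) ((1 : K) ⊗ₜ[R] a) = _
          rw [hr]; simp)
      have h1 : π (Θ f) = ev (x * y) f := by
        rw [← ev_push, map_mul, hx', hy']
      show ev (x * y) f = 0
      rw [← h1, RingHom.mem_ker.1 hf, map_zero]
  rw [h]
  exact RingHom.ker_isPrime _

/-- The functions vanishing on the products of the zeros of two primes form a prime. -/
theorem isPrime_vanish_mul (Q' Q : Ideal (K ⊗[R] A)) [Q'.IsPrime] [Q.IsPrime] :
    (vanish (Set.image2 (· * ·) (zeros Q') (zeros Q) : Set (Pts R A K))).IsPrime := by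
  have h := isPrime_vanish_mul_aux (Ideal.Quotient.mkₐ K Q') (Ideal.Quotient.mkₐ K Q)
    Ideal.Quotient.mk_surjective Ideal.Quotient.mk_surjective
  rw [show RingHom.ker (Ideal.Quotient.mkₐ K Q') = Q' from Ideal.mk_ker,
    show RingHom.ker (Ideal.Quotient.mkₐ K Q) = Q from Ideal.mk_ker] at h
  exact h

/-- **The component through the unit**: an infinite uniformly unipotent normal subgroup has an irreducible one. -/
theorem exists_irreducible (H : Subgroup (Pts R A K)) [H.Normal] (hu : IsUni (H : Set (Pts R A K)))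
    (hinf : ¬ (H : Set (Pts R A K)).Finite) :
    ∃ Q : Ideal (K ⊗[R] A), Q.IsPrime ∧ (1 : Pts R A K) ∈ zeros Q ∧
      (∀ x ∈ zeros Q, ∀ y ∈ zeros Q, x * y ∈ zeros Q) ∧ (∀ g, ∀ x ∈ zeros Q, g * x * g⁻¹ ∈ zeros Q) ∧
      IsUni (zeros Q) ∧ ¬ (zeros Q).Finite := by
  classical
  haveI : IsNoetherianRing (K ⊗[R] A) := Algebra.FiniteType.isNoetherianRing K _
  let I := vanish (H : Set (Pts R A K))
  have h1I : I ≤ RingHom.ker (ev (B := K) (1 : Pts R A K)) := fun f hf =>
    RingHom.mem_ker.2 (mem_vanish.1 hf 1 H.one_mem)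
  haveI : (RingHom.ker (ev (B := K) (1 : Pts R A K))).IsPrime := RingHom.ker_isPrime _
  obtain ⟨Q, hQmin, hQ1⟩ := Ideal.exists_minimalPrimes_le h1I
  haveI : Q.IsPrime := hQmin.1.1
  have hQI : I ≤ Q := hQmin.1.2
  have hsub : zeros Q ⊆ zeros I := fun z hz => hQI.trans hz
  -- a minimal prime through the unit contains the products
  have key : ∀ Q' : Ideal (K ⊗[R] A), Q' ∈ I.minimalPrimes → (1 : Pts R A K) ∈ zeros Q' →
      Q' = Q ∧ ∀ x ∈ zeros Q', ∀ y ∈ zeros Q, x * y ∈ zeros Q := by
    intro Q' hQ' hQ'1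
    haveI : Q'.IsPrime := hQ'.1.1
    let P := vanish (Set.image2 (· * ·) (zeros Q') (zeros Q) : Set (Pts R A K))
    haveI : P.IsPrime := isPrime_vanish_mul Q' Q
    have hI : I ≤ P := fun f hf => mem_vanish.2 (by
      rintro _ ⟨x, hx, y, hy, rfl⟩
      exact RingHom.mem_ker.1 (mul_mem_zeros_vanish (S := H.toSubmonoid) (hQ'.1.2.trans hx) (hQI.trans hy) hf))
    have hle' : P ≤ Q' := fun f hf => mem_of_zeros fun x hx => by
      simpa using mem_vanish.1 hf _ (Set.mem_image2_of_mem hx hQ1)
    have hle : P ≤ Q := fun f hf => mem_of_zeros fun y hy => by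
      simpa using mem_vanish.1 hf _ (Set.mem_image2_of_mem hQ'1 hy)
    have e' : P = Q' := le_antisymm hle' (hQ'.2 ⟨inferInstance, hI⟩ hle')
    have e : P = Q := le_antisymm hle (hQmin.2 ⟨inferInstance, hI⟩ hle)
    refine ⟨e'.symm.trans e, fun x hx y hy f hf => ?_⟩
    rw [← e] at hf
    exact RingHom.mem_ker.2 (mem_vanish.1 hf _ (Set.mem_image2_of_mem hx hy))
  -- translations permute the minimal primes
  have hmap : ∀ (φ ψ : K ⊗[R] A →ₐ[K] K ⊗[R] A), (∀ f, φ (ψ f) = f) → (∀ f, ψ (φ f) = f) →
      I ≤ I.comap φ → I ≤ I.comap ψ → Q.comap φ ∈ I.minimalPrimes := by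
    intro φ ψ hφψ hψφ hφ hψ
    refine ⟨⟨inferInstance, hφ.trans (Ideal.comap_mono hQI)⟩, fun P ⟨hP, hPI⟩ hPQ => ?_⟩
    haveI := hP
    have h1 := hQmin.2 (y := P.comap ψ) ⟨inferInstance, hψ.trans (Ideal.comap_mono hPI)⟩ fun f hf => by
      have := hPQ hf
      rwa [Ideal.mem_comap, hφψ] at this
    intro f hf
    have := h1 hf
    rwa [Ideal.mem_comap, hψφ] at this
  refine ⟨Q, inferInstance, hQ1, fun x hx y hy => (key Q hQmin hQ1).2 x hx y hy, fun g x hx => ?_, ?_, ?_⟩
  · have hinv : ∀ g : Pts R A K, I ≤ I.comap (trC g) := fun g f hf =>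
      mem_vanish.2 fun h hh => by rw [ev_trC]; exact mem_vanish.1 hf _ (Subgroup.Normal.conj_mem ‹_› h hh g)
    have hcomp : ∀ (g g' : Pts R A K), g * g' = 1 → ∀ f, trC g (trC g' f) = f := fun g g' hgg' f =>
      sub_eq_zero.1 (eq_zero_of_ev fun u => by
        rw [map_sub, ev_trC, ev_trC, inv_eq_of_mul_eq_one_right hgg']
        rw [show g' * (g * u * g') * g'⁻¹ = u by
          rw [show g' = g⁻¹ from (inv_eq_of_mul_eq_one_right hgg').symm]; group]
        exact sub_self _)
    have hQ' := hmap (trC g) (trC g⁻¹) (hcomp g g⁻¹ (mul_inv_cancel g)) (hcomp g⁻¹ g (inv_mul_cancel g)) (hinv g)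
      (hinv g⁻¹)
    obtain ⟨e, -⟩ := key _ hQ' fun f hf => by
      have := hQ1 (Ideal.mem_comap.1 hf)
      rwa [RingHom.mem_ker, ev_trC, mul_one, mul_inv_cancel, ← RingHom.mem_ker] at this
    intro f hf
    rw [RingHom.mem_ker, ← ev_trC]
    exact RingHom.mem_ker.1 (hx (Ideal.mem_comap.1 (by rw [e]; exact hf)))
  · exact hu.zeros_vanish.mono hsub
  · intro hfin
    have hQ := eq_ker_of_finite hfin (show (1 : Pts R A K) ∈ zeros Q from hQ1)
    have hmin : ∀ h ∈ H, RingHom.ker (ev (B := K) h) ∈ I.minimalPrimes := fun h hh => by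
      have hinv : ∀ h ∈ H, I ≤ I.comap (trL h) := fun h hh f hf =>
        mem_vanish.2 fun h' hh' => by rw [ev_trL]; exact mem_vanish.1 hf _ (H.mul_mem hh hh')
      have hcomp : ∀ (g g' : Pts R A K), g * g' = 1 → ∀ f, trL g' (trL g f) = f := fun g g' hgg' f =>
        sub_eq_zero.1 (eq_zero_of_ev fun u => by
          rw [map_sub, ev_trL, ev_trL, ← mul_assoc, hgg', one_mul]
          exact sub_self _)
      have h1 := hmap (trL h) (trL h⁻¹) (hcomp h⁻¹ h (inv_mul_cancel h)) (hcomp h h⁻¹ (mul_inv_cancel h))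
        (hinv h hh) (hinv _ (H.inv_mem hh))
      rw [hQ] at h1
      convert h1 using 1
      ext f
      rw [Ideal.mem_comap, RingHom.mem_ker, RingHom.mem_ker, ev_trL, mul_one]
    refine hinf ((Ideal.finite_minimalPrimes_of_isNoetherianRing _ I).of_injOn (f := fun h => RingHom.ker (ev (B := K) h))
      hmin fun x _ y _ hxy => ?_)
    have he : ∀ f, ev (B := K) x f = ev y f := fun f => by
      have h2 : f - algebraMap K _ (ev x f) ∈ RingHom.ker (ev (B := K) y) := by
        rw [← show RingHom.ker (ev (B := K) x) = RingHom.ker (ev (B := K) y) from hxy, RingHom.mem_ker, map_sub,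
          AlgHom.commutes]
        exact sub_self _
      rw [RingHom.mem_ker, map_sub, AlgHom.commutes, sub_eq_zero] at h2
      exact h2.symm
    exact WithConv.ext (AlgHom.ext fun a => by simpa using he ((1 : K) ⊗ₜ[R] a))

end Groth.Agent.RedOpen
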