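import Groth.Agent.RedOpen.Semisimple
import Groth.Agent.S5259
import Groth.Agent.S4098

/-!
# The semisimple locus of the identity component
-/

set_option autoImplicit false
set_option backward.isDefEq.respectTransparency false
set_option linter.style.haveILetI false
set_option linter.unusedSectionVars false
set_option maxHeartbeats 1000000
set_option synthInstance.maxHeartbeats 200000

universe u

open CategoryTheory CategoryTheory.Limits MonoidalCategory CartesianMonoidalCategory MonObj GrpObj AlgebraicGeometry

noncomputable section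

namespace Groth.Agent.RedOpen

theorem le_zero_iff_lt_one (x : WithBot ℕ∞) : x ≤ 0 ↔ x < 1 := by
  cases x with
  | bot => simp
  | coe a =>
    rw [← WithBot.coe_zero, ← WithBot.coe_one, WithBot.coe_le_coe, WithBot.coe_lt_coe]
    exact ⟨fun h => lt_of_le_of_lt h zero_lt_one, fun h => (ENat.lt_one_iff_eq_zero.1 h).le⟩

/-- The fibres over a field are connected if the space is. -/
theorem connectedSpace_pullback_residue {K : Type u} [Field K] (X : Over (Spec (CommRingCat.of K)))
    [ConnectedSpace X.left] (s : Spec (CommRingCat.of K)) :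
    ConnectedSpace ↥(pullback X.hom ((Spec (CommRingCat.of K)).fromSpecResidueField s)) := by
  have h : _root_.IsConnected (X.hom.base ⁻¹' {s}) := by
    haveI : Subsingleton ↥(Spec (CommRingCat.of K)) := inferInstanceAs (Subsingleton (PrimeSpectrum K))
    rw [show X.hom.base ⁻¹' {s} = Set.univ from Set.eq_univ_of_forall fun _ => Subsingleton.elim _ _]
    exact isConnected_univ
  rw [← X.hom.range_fiberι s] at h
  refine connectedSpace_iff_univ.2 ⟨⟨Classical.choice (Set.range_nonempty_iff_nonempty.1 h.nonempty), trivial⟩, ?_⟩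
  exact (X.hom.fiberι s).isEmbedding.isInducing.isPreconnected_image.1 (by rw [Set.image_univ]; exact h.2)

/-- A connected reductive open subgroup is semisimple exactly when its centralizer is zero dimensional. -/
theorem isSemisimpleOver_iff_centralizer {K : Type u} [Field K] [IsAlgClosed K]
    {G U C : Over (Spec (CommRingCat.of K))} [GrpObj G] [GrpObj U] [GrpObj C] [LocallyOfFiniteType G.hom]
    (j : U ⟶ G) [IsMonHom j] [IsOpenImmersion j.left] (hU : Red.IsReductiveOver K U) (c : C ⟶ G)
    (hc : Red.IsCentralizerOf j c) [IsClosedImmersion c.left] :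
    Red.IsSemisimpleOver K U ↔ topologicalKrullDim ↥C.left ≤ 0 := by
  obtain ⟨hUa, hUs, hUc, -⟩ := id hU
  haveI := hUa; haveI := hUs; haveI := hUc
  haveI : IsAffineHom U.hom := isAffineHom_of_isAffine U.hom
  obtain ⟨Z, _, z, hz, hzc, -⟩ := S5259.result U U (connectedSpace_pullback_residue U) (𝟙 U)
  haveI := hzc; haveI := hz.1; haveI := hz.2.1; haveI := hc.1; haveI := hc.2.1
  haveI : IsClosedImmersion j.left := isClosedImmersion_openSub j
  haveI : Mono j := Over.mono_of_mono_left j
  have hz' : Red.IsCentre z := hz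
  rw [isSemisimpleOver_iff_centre hU z hz']
  obtain ⟨f, hf⟩ := (hc.2.2 Z (z ≫ j)).2 fun X' x h => by
    have h1 := (hz.2.2 Z z).1 ⟨𝟙 Z, Category.id_comp z⟩ X' x h
    rw [Category.comp_id] at h1
    rw [← Category.assoc, ← MonObj.mul_comp, ← MonObj.mul_comp, h1]
  haveI : IsClosedImmersion (f.left ≫ c.left) := by
    rw [← Over.comp_left, hf]; exact inferInstanceAs (IsClosedImmersion (z.left ≫ j.left))
  haveI : IsClosedImmersion f.left := IsClosedImmersion.of_comp f.left c.left
  haveI : LocallyOfFiniteType C.hom := by rw [← Over.w c]; infer_instance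
  let O : C.left.Opens := c.left ⁻¹ᵁ j.left.opensRange
  have hO : (O : Set C.left) ⊆ Set.range f.left := by
    intro x hx
    let Oo : Over (Spec (CommRingCat.of K)) := Over.mk (O.ι ≫ C.hom)
    let o : Oo ⟶ C := Over.homMk O.ι rfl
    have hr : Set.range (o ≫ c).left ⊆ Set.range j.left := by
      rintro _ ⟨w, rfl⟩
      exact w.2
    let b : Oo ⟶ U := Over.homMk (IsOpenImmersion.lift j.left (o ≫ c).left hr)
      (by rw [← Over.w j, IsOpenImmersion.lift_fac_assoc, Over.w (o ≫ c)])
    have hb : b ≫ j = o ≫ c := Over.OverMorphism.ext (IsOpenImmersion.lift_fac _ _ _)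
    obtain ⟨w, hw⟩ := (hz.2.2 Oo b).2 fun X' v h => by
      rw [Category.comp_id, ← cancel_mono j, MonObj.mul_comp, MonObj.mul_comp, Category.assoc, hb]
      exact (hc.2.2 Oo (o ≫ c)).1 ⟨o, rfl⟩ X' v h
    have h1 : w ≫ f = o := by
      rw [← cancel_mono c, Category.assoc, hf, ← Category.assoc, hw, hb]
    exact ⟨w.left ⟨x, hx⟩, by rw [← Scheme.Hom.comp_apply, ← Over.comp_left, h1]; rfl⟩
  refine ⟨fun h => ?_, fun h => f.left.isClosedEmbedding.isInducing.topologicalKrullDim_le.trans h⟩
  obtain ⟨t⟩ : Nonempty ↥(𝟙_ (Over (Spec (CommRingCat.of K)))).left := inferInstanceAs (Nonempty (PrimeSpectrum K))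
  have he : η[C].left t ∈ O := ⟨η[U].left t, by
    rw [← Scheme.Hom.comp_apply, ← Scheme.Hom.comp_apply, ← Over.comp_left, ← Over.comp_left,
      IsMonHom.one_hom j, IsMonHom.one_hom c]⟩
  rw [← (GrpField.equidimensional C).2 _ _ O.2 he]
  refine le_trans (Topology.IsInducing.topologicalKrullDim_le (f := Set.inclusion hO)
    (Topology.IsEmbedding.inclusion hO).isInducing) ?_
  exact le_of_eq_of_le
    (IsHomeomorph.topologicalKrullDim_eq _ f.left.isClosedEmbedding.isEmbedding.toHomeomorph.isHomeomorph).symm h

/-- The semisimple locus of the identity component is open. -/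
theorem isOpen_semisimple_component {S : Scheme.{u}} (G : Over S) [GrpObj G] [IsAffineHom G.hom] [Smooth G.hom] :
    IsOpen {s : S | ∃ (U : Over (Spec (CommRingCat.of (AlgebraicClosure (S.residueField s))))) (_ : GrpObj U)
        (j : U ⟶ Red.geomFibre s G) (_ : IsMonHom j), IsOpenImmersion j.left ∧
          Red.IsSemisimpleOver (AlgebraicClosure (S.residueField s)) U} := by
  obtain ⟨-, G0, _, i, him, hio, hir, hG0s, hG0q⟩ := S4098.result S G
    ⟨⊤, inferInstance, fun _ => trivial⟩
  haveI := him; haveI := hio; haveI := hG0s; haveI := hG0q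
  haveI : Mono i := Over.mono_of_mono_left i
  haveI : QuasiSeparated G0.hom := by rw [← Over.w i]; infer_instance
  have hconn0 : ∀ s : S, _root_.IsConnected (G0.hom.base ⁻¹' {s}) := by
    intro s
    have h1 : i.left '' (G0.hom.base ⁻¹' {s}) =
        connectedComponentIn (G.hom.base ⁻¹' {s}) (η[G].left.base s) := by
      ext x
      constructor
      · rintro ⟨w, hw, rfl⟩
        have h : i.left w ∈ SGA3x.neutralSet G := hir ▸ ⟨w, rfl⟩
        obtain ⟨p, hp⟩ := Set.mem_iUnion.1 h
        have hps : (𝟙_ (Over S)).hom.base p = s := by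
          have h2 := connectedComponentIn_subset _ _ hp
          rw [Set.mem_preimage, Set.mem_singleton_iff] at h2
          rw [← h2, show G.hom.base (i.left w) = (i.left ≫ G.hom).base w from rfl, Over.w i]
          exact hw
        have hp' : p = s := hps
        subst hp'
        exact hp
      · intro hx
        have h : x ∈ SGA3x.neutralSet G := Set.mem_iUnion.2 ⟨(s : ↥(𝟙_ (Over S)).left), hx⟩
        rw [← hir] at h
        obtain ⟨w, rfl⟩ := h
        refine ⟨w, ?_, rfl⟩
        have h2 := connectedComponentIn_subset _ _ hx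
        show (G0.hom).base w = s
        rw [← Over.w i]
        exact h2
    have hmem : η[G].left.base s ∈ G.hom.base ⁻¹' {s} := by
      show (η[G].left ≫ G.hom).base s = s
      rw [Over.w η[G]]
      rfl
    have h3 : _root_.IsConnected (connectedComponentIn (G.hom.base ⁻¹' {s}) (η[G].left.base s)) :=
      isConnected_connectedComponentIn_iff.2 hmem
    rw [← h1] at h3
    exact ⟨h3.nonempty.of_image, i.left.isOpenEmbedding.isInducing.isPreconnected_image.1 h3.2⟩
  have hconn0' : ∀ s : S, ConnectedSpace ↥(pullback G0.hom (S.fromSpecResidueField s)) := fun s => by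
    have h := hconn0 s
    rw [← G0.hom.range_fiberι s] at h
    refine connectedSpace_iff_univ.2 ⟨⟨Classical.choice (Set.range_nonempty_iff_nonempty.1 h.nonempty), trivial⟩, ?_⟩
    exact (G0.hom.fiberι s).isEmbedding.isInducing.isPreconnected_image.1 (by rw [Set.image_univ]; exact h.2)
  obtain ⟨C, _, c, hc, hcc, -⟩ := S5259.result G G0 hconn0' i
  haveI := hcc; haveI := hc.1
  haveI : LocallyOfFiniteType C.hom := by rw [← Over.w c]; infer_instance
  let d := fun s : S => topologicalKrullDim ↥(C.hom ⁻¹' {s})
  have hd : IsOpen {s : S | d s ≤ 0} := by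
    have h := upperSemicontinuous_iff_isOpen_preimage.1 (GrpDim.upperSemicontinuous_dim (G := C)) (1 : WithBot ℕ∞)
    have he : {s : S | d s ≤ 0} = d ⁻¹' Set.Iio 1 := by
      ext s
      exact le_zero_iff_lt_one (d s)
    rw [he]; exact h
  convert (isOpen_noUni G).inter hd using 1
  ext s
  let K := AlgebraicClosure (S.residueField s)
  let H := Red.geomFibre s G
  haveI : Smooth H.hom := inferInstanceAs (Smooth (pullback.snd G.hom _))
  haveI : IsAffineHom H.hom := inferInstanceAs (IsAffineHom (pullback.snd G.hom _))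
  haveI : IsAffine H.left := isAffine_of_isAffineHom H.hom
  let U₀ := Red.geomFibre s G0
  let j₀ := (Over.pullback (Red.geomPt s)).map i
  haveI : IsOpenImmersion j₀.left :=
    MorphismProperty.of_isPullback (P := @IsOpenImmersion) (MTImage.isPullback_map i _) hio
  haveI : IsClosedImmersion ((Over.pullback (Red.geomPt s)).map c).left :=
    MorphismProperty.of_isPullback (P := @IsClosedImmersion) (MTImage.isPullback_map c _) hcc
  haveI : ConnectedSpace U₀.left := TorusLift.connectedSpace_bc_geom hconn0 (Red.geomPt s)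
  have hcK := Chev.CentBC.isCentralizerOf_bc (Red.geomPt s) i c hc
  have hdim : topologicalKrullDim ↥(Red.geomFibre s C).left = d s := MTImage.dim_geomFibre C s
  constructor
  · rintro ⟨U, _, j, _, hj, hU⟩
    haveI := hj
    haveI := hU.1.2.2.1
    refine ⟨noUni_of_openSub j hU.1.2.2.2, ?_⟩
    obtain ⟨t⟩ : Nonempty ↥(𝟙_ (Over (Spec (CommRingCat.of K)))).left := inferInstanceAs (Nonempty (PrimeSpectrum K))
    obtain ⟨f, hf⟩ := exists_factor_conn j₀ j ⟨η[U].left t, η[U₀].left t, by
      rw [← Scheme.Hom.comp_apply, ← Scheme.Hom.comp_apply, ← Over.comp_left, ← Over.comp_left,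
        IsMonHom.one_hom j, IsMonHom.one_hom j₀]⟩
    obtain ⟨g, hg⟩ := exists_factor_conn j j₀ ⟨η[U₀].left t, η[U].left t, by
      rw [← Scheme.Hom.comp_apply, ← Scheme.Hom.comp_apply, ← Over.comp_left, ← Over.comp_left,
        IsMonHom.one_hom j, IsMonHom.one_hom j₀]⟩
    have hcU : Red.IsCentralizerOf j ((Over.pullback (Red.geomPt s)).map c) := by
      refine ⟨hcK.1, hcK.2.1, fun X x => (hcK.2.2 X x).trans ⟨fun hx X' a h => ?_, fun hx X' a h => ?_⟩⟩
      · have := hx X' a (h ≫ f)
        simpa only [Category.assoc, show f ≫ (Over.pullback (Red.geomPt s)).map i = j from hf] using this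
      · have := hx X' a (h ≫ g)
        simpa only [Category.assoc, show g ≫ j = (Over.pullback (Red.geomPt s)).map i from hg] using this
    show d s ≤ 0
    rw [← hdim]
    exact (isSemisimpleOver_iff_centralizer j hU.1 _ hcU).1 hU
  · rintro ⟨hn, hd0⟩
    haveI : IsClosedImmersion j₀.left := isClosedImmersion_openSub j₀
    have hU₀ : Red.IsReductiveOver K U₀ := ⟨isAffine_of_isAffineHom j₀.left, by rw [← Over.w j₀]; infer_instance,
      inferInstance, (noUni_openSub_iff j₀).2 hn⟩
    refine ⟨U₀, inferInstance, j₀, inferInstance, inferInstance, ?_⟩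
    rw [isSemisimpleOver_iff_centralizer j₀ hU₀ _ hcK, hdim]
    exact hd0

end Groth.Agent.RedOpen
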