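import Groth.Agent.RedOpen.Good
import Mathlib.LinearAlgebra.Basis.VectorSpace

/-!
# Composition factors of a representation on points
-/

set_option autoImplicit false
set_option linter.style.haveILetI false
set_option linter.unusedSectionVars false

universe u v

open TensorProduct WithConv
open scoped Groth.Agent.Takeuchi

noncomputable section

namespace Groth.Agent.RedOpen

variable {R A : Type u} [CommRing R] [CommRing A] [HopfAlgebra R A] {K : Type u} [Field K] [Algebra R K]

/-- The matrix coefficients of the operators are functions with coefficients. -/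
def IsReg {V : Type v} [AddCommGroup V] [Module K V] (ρ : Pts R A K →* Module.End K V) : Prop :=
  ∀ (l : V →ₗ[K] K) (w : V), ∃ x : K ⊗[R] A, ∀ u, ev u x = l (ρ u w)

variable [IsAlgClosed K] [Algebra.FiniteType R A] [IsReduced (U2 R A K)]

/-- An irreducible regular representation gives a full matrix representation. -/
theorem exists_full_of_simple {V : Type v} [AddCommGroup V] [Module K V] [FiniteDimensional K V] [Nontrivial V]
    (ρ : Pts R A K →* Module.End K V) (hρ : IsReg ρ)
    (hs : ∀ U : Submodule K V, (∀ g, ∀ x ∈ U, ρ g x ∈ U) → U = ⊥ ∨ U = ⊤) :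
    ∃ (d : ℕ) (M : Matrix (Fin d) (Fin d) (K ⊗[R] A)), IsRep M ∧ IsFull M ∧
      ∀ u, evM u M = 1 → ρ u = 1 := by
  classical
  let b := Module.finBasis K V
  let e := LinearMap.toMatrixAlgEquiv b
  choose x hx using fun i j => hρ (b.coord i) (b j)
  let M : Matrix _ _ (K ⊗[R] A) := fun i j => x i j
  have hev : ∀ u : Pts R A K, evM u M = e (ρ u) := fun u => by
    ext i j
    rw [LinearMap.toMatrixAlgEquiv_apply]
    exact hx i j u
  refine ⟨_, M, isRep_of_points (fun u v => by rw [hev, hev, hev, map_mul, map_mul])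
    (by rw [hev, map_one, map_one]), ?_, fun u hu => e.injective (by rw [← hev, hu, map_one])⟩
  let S := Algebra.adjoin K (Set.range ρ)
  haveI : IsSimpleModule S V := (isSimpleModule_iff S V).2
    { exists_pair_ne := ⟨⊥, ⊤, by exact bot_ne_top⟩
      eq_bot_or_eq_top := fun U => by
        rcases hs (U.restrictScalars K) (fun g y hy => U.smul_mem ⟨ρ g, Algebra.subset_adjoin ⟨g, rfl⟩⟩ hy) with h | h
        · exact Or.inl ((Submodule.eq_bot_iff U).2 fun y hy => (Submodule.eq_bot_iff _).1 h y hy)
        · exact Or.inr (Submodule.eq_top_iff'.2 fun y => (Submodule.eq_top_iff'.1 h y : _)) }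
  refine eq_top_iff.2 fun N _ => ?_
  have hN : e.symm N ∈ Submodule.span K (Set.range ρ) := by
    have h : e.symm N ∈ Subalgebra.toSubmodule S := S7975.burnside K V S _
    rwa [Algebra.adjoin_eq_span_of_subset] at h
    refine fun y hy => Submodule.subset_span ?_
    have : Submonoid.closure (Set.range ρ) ≤ MonoidHom.mrange ρ := Submonoid.closure_le.2 fun z hz => hz
    exact this hy
  have h1 := Submodule.apply_mem_span_image_of_mem_span (e.toLinearMap) hN
  rw [← Set.range_comp] at h1
  simp only [AlgEquiv.toLinearMap_apply, AlgEquiv.apply_symm_apply] at h1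
  rw [show (fun u : Pts R A K => evM u M) = (⇑e.toLinearMap ∘ ⇑ρ) from funext hev]
  exact h1

/-- The composition factors detect unipotence. -/
theorem exists_factors : ∀ (r : ℕ) (V : Type v) [AddCommGroup V] [Module K V] [FiniteDimensional K V],
    Module.finrank K V ≤ r → ∀ ρ : Pts R A K →* Module.End K V, IsReg ρ →
    ∃ L : List (Σ d : ℕ, Matrix (Fin d) (Fin d) (K ⊗[R] A)), (∀ p ∈ L, IsRep p.2 ∧ IsFull p.2) ∧
      ∀ u, (∀ p ∈ L, evM u p.2 = 1) → IsNilpotent (ρ u - 1) := by
  intro r
  induction r with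
  | zero =>
    intro V _ _ _ hr ρ _
    haveI : Subsingleton V := Module.finrank_zero_iff.1 (Nat.le_zero.1 hr)
    exact ⟨[], by simp, fun u _ => ⟨1, LinearMap.ext fun x => Subsingleton.elim _ _⟩⟩
  | succ r ih =>
    intro V _ _ _ hr ρ hρ
    by_cases hsub : Subsingleton V
    · exact ⟨[], by simp, fun u _ => ⟨1, LinearMap.ext fun x => Subsingleton.elim _ _⟩⟩
    rw [not_subsingleton_iff_nontrivial] at hsub
    by_cases hs : ∀ U : Submodule K V, (∀ g, ∀ x ∈ U, ρ g x ∈ U) → U = ⊥ ∨ U = ⊤
    · obtain ⟨d, M, hM, hfull, h1⟩ := exists_full_of_simple ρ hρ hs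
      refine ⟨[⟨d, M⟩], fun p hp => ?_, fun u hu => ⟨1, ?_⟩⟩
      · rw [List.mem_singleton] at hp; subst hp; exact ⟨hM, hfull⟩
      · rw [h1 u (hu ⟨d, M⟩ (List.mem_singleton.2 rfl)), sub_self, pow_one]
    push Not at hs
    obtain ⟨U, hst, hU0, hU1⟩ := hs
    let ρU : Pts R A K →* Module.End K U :=
      { toFun := fun g => (ρ g).restrict (hst g)
        map_one' := LinearMap.ext fun x => Subtype.ext (by simp)
        map_mul' := fun a b => LinearMap.ext fun x => Subtype.ext (by simp) }
    have hst' : ∀ g, U ≤ U.comap (ρ g) := hst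
    let ρQ : Pts R A K →* Module.End K (V ⧸ U) :=
      { toFun := fun g => U.mapQ U (ρ g) (hst' g)
        map_one' := Submodule.linearMap_qext _ (LinearMap.ext fun x => by simp)
        map_mul' := fun a b => Submodule.linearMap_qext _ (LinearMap.ext fun x => by simp) }
    have hregU : IsReg ρU := fun l w => by
      obtain ⟨l', hl'⟩ := l.exists_extend
      obtain ⟨x, hx⟩ := hρ l' (w : V)
      exact ⟨x, fun u => (hx u).trans (LinearMap.congr_fun hl' (ρU u w))⟩
    have hregQ : IsReg ρQ := fun l w => by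
      obtain ⟨w, rfl⟩ := Submodule.Quotient.mk_surjective U w
      obtain ⟨x, hx⟩ := hρ (l.comp U.mkQ) w
      exact ⟨x, fun u => hx u⟩
    obtain ⟨L₁, hL₁, hu₁⟩ := ih U (by have := Submodule.finrank_lt hU1; omega) ρU hregU
    obtain ⟨L₂, hL₂, hu₂⟩ := ih (V ⧸ U) (by
      have h1 := Submodule.finrank_quotient_add_finrank U
      have h2 : 0 < Module.finrank K U := by
        haveI : Nontrivial U := Submodule.nontrivial_iff_ne_bot.2 hU0
        exact Module.finrank_pos
      omega) ρQ hregQ
    refine ⟨L₁ ++ L₂, fun p hp => ?_, fun u hu => ?_⟩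
    · rcases List.mem_append.1 hp with h | h
      exacts [hL₁ p h, hL₂ p h]
    obtain ⟨a, ha⟩ := hu₁ u fun p hp => hu p (List.mem_append.2 (Or.inl hp))
    obtain ⟨b, hb⟩ := hu₂ u fun p hp => hu p (List.mem_append.2 (Or.inr hp))
    have hcommU : ∀ (m : ℕ) (x : U), (((ρU u - 1) ^ m) x : V) = ((ρ u - 1) ^ m) (x : V) := by
      intro m
      induction m with
      | zero => intro x; simp
      | succ m ihm => intro x; rw [pow_succ, pow_succ, Module.End.mul_apply, Module.End.mul_apply, ihm]; rfl
    have hcommQ : ∀ (m : ℕ) (x : V), ((ρQ u - 1) ^ m) (Submodule.Quotient.mk x) =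
        Submodule.Quotient.mk (((ρ u - 1) ^ m) x) := by
      intro m
      induction m with
      | zero => simp
      | succ m ihm => intro x; rw [pow_succ, pow_succ, Module.End.mul_apply, Module.End.mul_apply, ← ihm]; simp [ρQ]
    refine ⟨a + b, LinearMap.ext fun x => ?_⟩
    have hxU : ((ρ u - 1) ^ b) x ∈ U := by
      rw [← Submodule.Quotient.mk_eq_zero, ← hcommQ, hb]; rfl
    rw [pow_add, Module.End.mul_apply]
    have := hcommU a ⟨_, hxU⟩
    rw [ha] at this
    exact this.symm

variable {n : Type} [Fintype n] [DecidableEq n] {M : Matrix n n (K ⊗[R] A)}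

/-- No infinite uniformly unipotent normal subgroup of points gives irreducibles with finite common kernel. -/
theorem good_of_forall (hM : IsRep M) (hgen : Algebra.adjoin K (Set.range fun p : n × n => M p.1 p.2) = ⊤)
    (h : ∀ H : Subgroup (Pts R A K), H.Normal → IsUni (H : Set (Pts R A K)) → (H : Set (Pts R A K)).Finite) :
    Good R A K := by
  classical
  let e : Matrix n n K ≃ₐ[K] Module.End K (n → K) := Matrix.toLinAlgEquiv'
  let ρ : Pts R A K →* Module.End K (n → K) := e.toMulEquiv.toMonoidHom.comp hM.hom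
  have hreg : IsReg ρ := fun l w => by
    refine ⟨∑ i, ∑ j, (l (Pi.single i 1) * w j) • M i j, fun u => ?_⟩
    have h1 : ρ u w = ∑ i, (∑ j, evM u M i j * w j) • Pi.single i (1 : K) := by
      show (evM u M).mulVec w = _
      funext i
      simp [Matrix.mulVec, dotProduct, Finset.sum_apply, Pi.single_apply]
    rw [h1, map_sum]
    simp only [map_sum, map_smul, smul_eq_mul, evM, Matrix.map_apply, Finset.sum_mul]
    exact Finset.sum_congr rfl fun i _ => Finset.sum_congr rfl fun j _ => by ring
  obtain ⟨L, hL, hu⟩ := exists_factors _ _ le_rfl ρ hreg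
  let N : ∀ l : Fin L.length, Matrix (Fin (L.get l).1) (Fin (L.get l).1) (K ⊗[R] A) := fun l => (L.get l).2
  have hN : ∀ l, IsRep (N l) ∧ IsFull (N l) := fun l => hL _ (List.get_mem L l)
  refine ⟨L.length, _, N, fun l => (hN l).1, fun l => (hN l).2, ?_⟩
  let H : Subgroup (Pts R A K) :=
    { carrier := {u | ∀ l, evM u (N l) = 1}
      one_mem' := fun l => (hN l).1.evM_one
      mul_mem' := fun {a b} ha hb l => by rw [(hN l).1.evM_mul, ha l, hb l, one_mul]
      inv_mem' := fun {a} ha l => by
        have := (hN l).1.evM_mul a a⁻¹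
        rwa [mul_inv_cancel, (hN l).1.evM_one, ha l, one_mul, eq_comm] at this }
  refine h H ⟨fun a ha g l => ?_⟩ (isUni_of_generating hM hgen _ fun u hu' => ?_)
  · rw [(hN l).1.evM_mul, (hN l).1.evM_mul, ha l, mul_one, ← (hN l).1.evM_mul, mul_inv_cancel, (hN l).1.evM_one]
  · have h1 := hu u fun p hp => by
      obtain ⟨l, rfl⟩ := List.mem_iff_get.1 hp
      exact hu' l
    have h2 := h1.map e.symm
    rw [map_sub, map_one] at h2
    rwa [show e.symm (ρ u) = evM u M from e.symm_apply_apply _] at h2

end Groth.Agent.RedOpen
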