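import Groth.Agent.RedOpen.Pts
import Groth.Agent.S7975
import Mathlib.LinearAlgebra.Matrix.Charpoly.Coeff
import Mathlib.LinearAlgebra.Matrix.ToLin

/-!
# Uniformly unipotent sets of points and the irreducible-representation criterion
-/

set_option autoImplicit false
set_option linter.style.haveILetI false
set_option linter.unusedSectionVars false

universe u v w

open TensorProduct WithConv
open scoped Groth.Agent.Takeuchi

noncomputable section

namespace Groth.Agent.RedOpen

variable {R A : Type u} [CommRing R] [CommRing A] [HopfAlgebra R A] {K : Type u} [Field K] [Algebra R K]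

/-- A set of points acts unipotently, uniformly for each function. -/
def IsUni (S : Set (Pts R A K)) : Prop :=
  ∀ a : A, ∃ D : ℕ, ∀ h ∈ S, PolySeq D fun m => (h ^ m).ofConv a

theorem IsUni.mono {S S' : Set (Pts R A K)} (h : IsUni S) (hS : S' ⊆ S) : IsUni S' := fun a => by
  obtain ⟨D, hD⟩ := h a
  exact ⟨D, fun x hx => hD x (hS hx)⟩

theorem IsUni.exists_polySeq_ev {S : Set (Pts R A K)} (hS : IsUni S) (x : K ⊗[R] A) :
    ∃ D : ℕ, ∀ h ∈ S, PolySeq D fun m => ev (h ^ m) x := by
  induction x using TensorProduct.induction_on with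
  | zero => exact ⟨0, fun h _ => by simp only [map_zero]; exact polySeq_zero 0⟩
  | add x y hx hy =>
    obtain ⟨D, hD⟩ := hx
    obtain ⟨E, hE⟩ := hy
    refine ⟨max D E, fun h hh => ?_⟩
    simp only [map_add]
    exact ((hD h hh).mono (le_max_left _ _)).add ((hE h hh).mono (le_max_right _ _))
  | tmul b a =>
    obtain ⟨D, hD⟩ := hS a
    refine ⟨D, fun h hh => ?_⟩
    simp only [ev_tmul]
    exact (hD h hh).smul _

variable {n : Type w} [Fintype n] [DecidableEq n] {M : Matrix n n (K ⊗[R] A)}

theorem IsUni.isNilpotent {S : Set (Pts R A K)} (hS : IsUni S) (hM : IsRep M) {h : Pts R A K} (hh : h ∈ S) :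
    IsNilpotent (evM h M - 1) := by
  choose D hD using fun i j => hS.exists_polySeq_ev (M i j)
  refine ⟨Finset.univ.sup fun p : n × n => D p.1 p.2, pow_sub_one_eq_zero _ _ fun i j => ?_⟩
  have h1 := (hD i j h hh).mono (Finset.le_sup (f := fun p : n × n => D p.1 p.2) (Finset.mem_univ (i, j)))
  simp only [← hM.evM_pow]
  exact h1

theorem pow_card_eq_zero {N : Matrix n n K} (h : IsNilpotent N) : N ^ Fintype.card n = 0 := by
  have h1 := Matrix.aeval_self_charpoly N
  have h2 : N.charpoly = Polynomial.X ^ Fintype.card n :=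
    (sub_eq_zero.1 (Matrix.isNilpotent_charpoly_sub_pow_of_isNilpotent h).eq_zero)
  rw [h2] at h1
  simpa using h1

/-- Points unipotent in a generating representation form a uniformly unipotent set. -/
theorem isUni_of_generating (hM : IsRep M)
    (hgen : Algebra.adjoin K (Set.range fun p : n × n => M p.1 p.2) = ⊤) (S : Set (Pts R A K))
    (h : ∀ x ∈ S, IsNilpotent (evM x M - 1)) : IsUni S := by
  intro a
  have key : ∀ x ∈ Algebra.adjoin K (Set.range fun p : n × n => M p.1 p.2),
      ∃ D : ℕ, ∀ s ∈ S, PolySeq D fun m => ev (s ^ m) x := by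
    intro x hx
    induction hx using Algebra.adjoin_induction with
    | mem x hx =>
      obtain ⟨⟨i, j⟩, rfl⟩ := hx
      refine ⟨Fintype.card n, fun s hs => ?_⟩
      have h1 := polySeq_pow (evM s M) _ (pow_card_eq_zero (h s hs)) i j
      simp only [← hM.evM_pow] at h1
      exact h1
    | algebraMap c =>
      refine ⟨1, fun s _ => ?_⟩
      simp only [AlgHom.commutes]
      exact polySeq_const _
    | add x y _ _ hx hy =>
      obtain ⟨D, hD⟩ := hx
      obtain ⟨E, hE⟩ := hy
      refine ⟨max D E, fun s hs => ?_⟩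
      simp only [map_add]
      exact ((hD s hs).mono (le_max_left _ _)).add ((hE s hs).mono (le_max_right _ _))
    | mul x y _ _ hx hy =>
      obtain ⟨D, hD⟩ := hx
      obtain ⟨E, hE⟩ := hy
      refine ⟨D + E, fun s hs => ?_⟩
      simp only [map_mul]
      exact (hD s hs).mul (hE s hs)
  obtain ⟨D, hD⟩ := key ((1 : K) ⊗ₜ[R] a) (hgen ▸ Algebra.mem_top)
  refine ⟨D, fun s hs => ?_⟩
  have h1 := hD s hs
  simp only [ev_tmul, map_one, one_mul] at h1
  exact h1

/-- The values of the representation span all matrices. -/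
def IsFull (M : Matrix n n (K ⊗[R] A)) : Prop :=
  Submodule.span K (Set.range fun u : Pts R A K => evM u M) = ⊤

variable (R A K) in
/-- Finitely many irreducible representations with a finite common kernel. -/
def Good : Prop :=
  ∃ (m : ℕ) (d : Fin m → ℕ) (M : ∀ l, Matrix (Fin (d l)) (Fin (d l)) (K ⊗[R] A)),
    (∀ l, IsRep (M l)) ∧ (∀ l, IsFull (M l)) ∧ {u : Pts R A K | ∀ l, evM u (M l) = 1}.Finite

variable [IsAlgClosed K]

/-- A uniformly unipotent normal monoid of points acts trivially in irreducible representations. -/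
theorem evM_eq_one_of_isUni {d : ℕ} {M : Matrix (Fin d) (Fin d) (K ⊗[R] A)} (hM : IsRep M) (hfull : IsFull M)
    (S : Submonoid (Pts R A K)) (hconj : ∀ g, ∀ h ∈ S, g * h * g⁻¹ ∈ S) (hu : IsUni (S : Set (Pts R A K)))
    {h : Pts R A K} (hh : h ∈ S) : evM h M = 1 := by
  rcases Nat.eq_zero_or_pos d with rfl | hd
  · exact Matrix.ext fun i => i.elim0
  haveI : Nonempty (Fin d) := Fin.pos_iff_nonempty.1 hd
  let e : Matrix (Fin d) (Fin d) K ≃ₐ[K] Module.End K (Fin d → K) := Matrix.toLinAlgEquiv'
  let ρ : S →* Module.End K (Fin d → K) :=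
    (e.toMulEquiv.toMonoidHom.comp hM.hom).comp S.subtype
  obtain ⟨v, hv0, hv⟩ := S7975.kolchin_closed K (Fin d → K) ρ fun g => by
    have h1 := (hu.isNilpotent hM g.2).map e
    rw [map_sub, map_one] at h1
    exact h1
  have hv' : ∀ g : Pts R A K, g ∈ S → e (evM g M) v = v := fun g hg => hv ⟨g, hg⟩
  have hall : ∀ N : Matrix (Fin d) (Fin d) K, e (evM h M) (e N v) = e N v := by
    intro N
    have hN : N ∈ Submodule.span K (Set.range fun u : Pts R A K => evM u M) := by rw [hfull]; trivial
    induction hN using Submodule.span_induction with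
    | mem x hx =>
      obtain ⟨g, rfl⟩ := hx
      have h1 : evM h M * evM g M = evM g M * evM (g⁻¹ * h * g⁻¹⁻¹) M := by
        rw [← hM.evM_mul, ← hM.evM_mul]
        congr 1
        group
      rw [← Module.End.mul_apply, ← map_mul, h1, map_mul, Module.End.mul_apply, hv' _ (hconj g⁻¹ h hh)]
    | zero => simp
    | add x y _ _ hx hy => simp only [map_add, LinearMap.add_apply, hx, hy]
    | smul c x _ hx => simp only [map_smul, LinearMap.smul_apply, hx]
  refine e.injective (LinearMap.ext fun w => ?_)
  obtain ⟨j, hj⟩ := Function.ne_iff.1 hv0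
  let T : Module.End K (Fin d → K) := (LinearMap.proj j : (Fin d → K) →ₗ[K] K).smulRight ((v j)⁻¹ • w)
  have hT : T v = w := by
    simp only [T, LinearMap.smulRight_apply, LinearMap.proj_apply, smul_smul]
    rw [mul_inv_cancel₀ (by simpa using hj), one_smul]
  have h1 := hall (e.symm T)
  rw [AlgEquiv.apply_symm_apply, hT] at h1
  rw [h1, map_one]
  rfl

/-- With irreducible representations of finite common kernel, uniformly unipotent normal monoids are finite. -/
theorem Good.finite_of_isUni (hG : Good R A K) (S : Submonoid (Pts R A K))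
    (hconj : ∀ g, ∀ h ∈ S, g * h * g⁻¹ ∈ S) (hu : IsUni (S : Set (Pts R A K))) : (S : Set (Pts R A K)).Finite := by
  obtain ⟨m, d, M, hM, hfull, hfin⟩ := hG
  exact hfin.subset fun h hh l => evM_eq_one_of_isUni (hM l) (hfull l) S hconj hu hh

end Groth.Agent.RedOpen
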