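import Groth.Agent.RedOpen.Clause

/-!
# Trivial unipotent radical is the irreducible-representation criterion
-/

set_option autoImplicit false
set_option backward.isDefEq.respectTransparency false
set_option linter.style.haveILetI false
set_option linter.unusedSectionVars false
set_option maxHeartbeats 1000000
set_option synthInstance.maxHeartbeats 200000

universe u

open CategoryTheory CategoryTheory.Limits MonoidalCategory CartesianMonoidalCategory MonObj GrpObj AlgebraicGeometry
open TensorProduct WithConv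
open scoped Groth.Agent.Takeuchi
open Groth.Agent.SubGen (rpt map_rpt exists_rpt)
open Groth.Agent.MTBridge (specGrp)

noncomputable section

namespace Groth.Agent.RedOpen

open Chev Chev.BorelFixed Chev.Borel

theorem isReduced_of_isDomain' (T : Type u) [CommRing T] [IsDomain T] : _root_.IsReduced T := inferInstance

theorem PolySeq.apply_zero {K : Type u} [CommRing K] : ∀ {D : ℕ} {s : ℕ → K}, PolySeq D s →
    (∀ m, s (m + 1) = 0) → s 0 = 0 := by
  intro D
  induction D with
  | zero => intro s hs _; exact congrFun hs 0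
  | succ D ih =>
    intro s hs h
    have h1 := ih (polySeq_succ_iff.1 hs) fun m => by
      show s (m + 1 + 1) - s (m + 1) = 0
      rw [h, h, sub_zero]
    have h2 : s (0 + 1) - s 0 = 0 := h1
    rw [h, zero_sub, neg_eq_zero] at h2
    exact h2

variable {R A : Type u} [CommRing R] [CommRing A] [HopfAlgebra R A] [Algebra.Smooth R A]
  {K : Type u} [Field K] [IsAlgClosed K] [Algebra R K]

omit [Algebra.Smooth R A] [IsAlgClosed K] in
theorem IsUni.zero_of_pos {S : Set (Pts R A K)} (hS : IsUni S) {x : Pts R A K} (hx : x ∈ S) (f : K ⊗[R] A)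
    (h : ∀ m : ℕ, ev (x ^ (m + 1)) f = 0) : ev (1 : Pts R A K) f = 0 := by
  obtain ⟨D, hD⟩ := hS.exists_polySeq_ev f
  have := (hD x hx).apply_zero h
  rwa [pow_zero] at this

variable (R A K) in
/-- Points of the base change are relative points. -/
def relEquiv : Takeuchi.Pt K (K ⊗[R] A) K ≃* Pts R A K where
  toFun u := toConv ((u.ofConv.restrictScalars R).comp Algebra.TensorProduct.includeRight)
  invFun v := toConv (ev (B := K) v)
  left_inv u := WithConv.ext (ev_restrict u.ofConv)
  right_inv v := WithConv.ext (AlgHom.ext fun a => by simp)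
  map_mul' u v := WithConv.ext (AlgHom.ext fun a => by
    let u' : Pts R A K := toConv ((u.ofConv.restrictScalars R).comp Algebra.TensorProduct.includeRight)
    let v' : Pts R A K := toConv ((v.ofConv.restrictScalars R).comp Algebra.TensorProduct.includeRight)
    show (u * v).ofConv ((1 : K) ⊗ₜ[R] a) = (u' * v').ofConv a
    rw [show (u' * v').ofConv a = ev (B := K) (u' * v') ((1 : K) ⊗ₜ[R] a) by simp, ev_mul]
    rw [show ev (B := K) u' = u.ofConv from ev_restrict u.ofConv, show ev (B := K) v' = v.ofConv from ev_restrict v.ofConv]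
    exact Takeuchi.mul_apply u v _)

/-- The last clause in the definition of a reductive group. -/
def NoUni {k : Type u} [Field k] (G : Over (Spec (CommRingCat.of k))) [GrpObj G] : Prop :=
  ∀ (U : Over (Spec (CommRingCat.of k))) [GrpObj U] (i : U ⟶ G) [IsMonHom i],
    IsClosedImmersion i.left → Smooth U.hom → ConnectedSpace U.left →
    AlgGrp.IsNormalHom i → Red.HasNoSubtorus k U → Red.IsTrivialGrp U

/-- A smooth connected group with finitely many rational points is trivial. -/
theorem isTrivialGrp_of_finite {K : Type u} [Field K] [IsAlgClosed K] {U : Over (Spec (CommRingCat.of K))}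
    [GrpObj U] [Smooth U.hom] [ConnectedSpace U.left] [Finite (RP U)] {A' : Type u} [CommRing A'] [HopfAlgebra K A']
    (e' : (specGrp K A').X ≅ U) [IsMonHom e'.hom] : Red.IsTrivialGrp U := by
  haveI : IsIso e'.hom.left := inferInstanceAs (IsIso ((Over.forget _).map e'.hom))
  haveI : Algebra.FiniteType K A' := by
    have h0 : LocallyOfFiniteType (e'.hom.left ≫ U.hom) := inferInstance
    rw [Over.w e'.hom] at h0
    exact RingHom.finiteType_algebraMap.1 ((HasRingHomProperty.Spec_iff (P := @LocallyOfFiniteType)).1 h0)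
  haveI : IsDomain A' := isDomain_of_smooth_connected e'
  haveI : Finite (A' →ₐ[K] K) := Finite.of_injective (fun g => (ProjRep.ptsEquiv e').symm (toConv g))
    fun g g' hgg' => WithConv.toConv_injective ((ProjRep.ptsEquiv e').symm.injective hgg')
  haveI : Module.Finite K A' := moduleFinite_of_finite_hom K A' K
  haveI : IsIso (CommRingCat.ofHom (algebraMap K A')) :=
    (ConcreteCategory.isIso_iff_bijective _).2 (IsAlgClosed.algebraMap_bijective_of_isIntegral (k := K) (K := A'))
  show IsIso U.hom
  rw [← Over.w e'.inv]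
  haveI : IsIso e'.inv.left := inferInstanceAs (IsIso ((Over.forget _).map e'.inv))
  exact inferInstanceAs (IsIso (e'.inv.left ≫ Spec.map (CommRingCat.ofHom (algebraMap K A'))))

variable {G : Over (Spec (CommRingCat.of K))} [GrpObj G] (e : (specGrp K (K ⊗[R] A)).X ≅ G) [IsMonHom e.hom]
include e

/-- Rational points as relative points. -/
def ptG : RP G ≃* Pts R A K := (ProjRep.ptsEquiv e).trans (relEquiv R A K)

omit [Algebra.Smooth R A] [IsAlgClosed K] in
theorem ev_ptG (g : RP G) : ev (B := K) (ptG e g) = (ProjRep.ptsEquiv e g).ofConv := ev_restrict _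

/-- The representation of rational points given by a matrix. -/
def matRep {n : ℕ} {M : Matrix (Fin n) (Fin n) (K ⊗[R] A)} (hM : IsRep M) :
    RP G →* Module.End K (Fin n → K) :=
  ((Matrix.toLinAlgEquiv' : Matrix (Fin n) (Fin n) K ≃ₐ[K] Module.End K (Fin n → K)).toMulEquiv.toMonoidHom.comp
    hM.hom).comp (ptG e).toMonoidHom

omit [Algebra.Smooth R A] [IsAlgClosed K] in
theorem isRegular_matRep {n : ℕ} {M : Matrix (Fin n) (Fin n) (K ⊗[R] A)} (hM : IsRep M) :
    RedCartan.IsRegular e (matRep e hM) := fun l w => by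
  refine ⟨∑ i, ∑ j, (l (Pi.single i 1) * w j) • M i j, fun g => ?_⟩
  have h1 : matRep e hM g w = ∑ i, (∑ j, evM (ptG e g) M i j * w j) • Pi.single i (1 : K) := by
    show (evM (ptG e g) M).mulVec w = _
    funext i
    simp [Matrix.mulVec, dotProduct, Finset.sum_apply, Pi.single_apply]
  show (ProjRep.ptsEquiv e g).ofConv _ = _
  rw [← ev_ptG e, h1, map_sum]
  simp only [map_sum, map_smul, smul_eq_mul, evM, Matrix.map_apply, Finset.sum_mul]
  exact Finset.sum_congr rfl fun i _ => Finset.sum_congr rfl fun j _ => by ring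

/-- The criterion gives a trivial unipotent radical. -/
theorem noUni_of_good (h : Good R A K) : NoUni G := by
  intro U _ i _ hic hUs hUc hnorm hUt
  haveI := hic; haveI := hUs; haveI := hUc
  haveI : IsAffine (specGrp K (K ⊗[R] A)).X.left := inferInstanceAs (IsAffine (Spec (CommRingCat.of (K ⊗[R] A))))
  haveI : IsIso e.inv.left := inferInstanceAs (IsIso ((Over.forget _).map e.inv))
  haveI : IsAffine G.left := IsAffine.of_isIso e.inv.left
  haveI : IsAffine U.left := isAffine_of_isAffineHom i.left
  obtain ⟨A', hA', e', he'⟩ := FinHopf.exists_hopf (R := CommRingCat.of K) U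
  haveI := he'
  haveI := finiteType_of_smooth (R := R) (A := A)
  obtain ⟨n, M, hM, hgen⟩ := exists_generating (R := R) (A := A) (K := K)
  let S := MonoidHom.mrange ((ptG e).toMonoidHom.comp (BorelFixed.rpHom i))
  have hconj : ∀ g, ∀ x ∈ S, g * x * g⁻¹ ∈ S := by
    rintro g _ ⟨u, rfl⟩
    obtain ⟨u', hu'⟩ := hnorm _ ((ptG e).symm g) u
    refine ⟨u', ?_⟩
    show ptG e (u' ≫ i) = g * ptG e (u ≫ i) * g⁻¹
    rw [← hu', map_mul, map_mul, map_inv, MulEquiv.apply_symm_apply]
  have hu : IsUni (S : Set (Pts R A K)) := isUni_of_generating hM hgen _ (by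
    rintro _ ⟨u, rfl⟩
    have h1 := isNilpotent_of_noSubtorus hUt e' ((isRegular_matRep e hM).comp e' i) u
    have h2 := h1.map (Matrix.toLinAlgEquiv' : Matrix (Fin n) (Fin n) K ≃ₐ[K] Module.End K (Fin n → K)).symm
    rw [map_sub, map_one] at h2
    refine Eq.mp ?_ h2
    congr 2
    exact AlgEquiv.symm_apply_apply _ _)
  have hfin := h.finite_of_isUni S hconj hu
  haveI : Mono i := GrpField.SchImg.mono_of_isClosedImmersion i
  haveI : Finite (RP U) := by
    haveI := hfin.to_subtype
    exact Finite.of_injective (fun u => (⟨ptG e (u ≫ i), ⟨u, rfl⟩⟩ : (S : Set (Pts R A K))))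
      fun u v huv => (cancel_mono i).1 ((ptG e).injective (congrArg Subtype.val huv))
  exact isTrivialGrp_of_finite e'

/-- A trivial unipotent radical gives the criterion. -/
theorem good_of_noUni (h : NoUni G) : Good R A K := by
  classical
  haveI := finiteType_of_smooth (R := R) (A := A)
  haveI := isReduced_fun (R := R) (A := A) K
  haveI := isReduced_U2 (R := R) (A := A) K
  obtain ⟨n, M, hM, hgen⟩ := exists_generating (R := R) (A := A) (K := K)
  refine good_of_forall hM hgen fun H hH hu => by_contra fun hinf => ?_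
  haveI := hH
  obtain ⟨Q, hQp, h1, hmul, hconj, huQ, hQinf⟩ := exists_irreducible H hu hinf
  haveI := hQp
  have hinv : ∀ x ∈ zeros Q, x⁻¹ ∈ zeros Q := fun x hx f hf => by
    rw [RingHom.mem_ker]
    have h0 := huQ.zero_of_pos hx (trR x⁻¹ f) fun m => by
      rw [ev_trR, pow_succ, mul_inv_cancel_right]
      refine RingHom.mem_ker.1 ?_
      suffices x ^ m ∈ zeros Q from this hf
      clear hf
      induction m with
      | zero => rw [pow_zero]; exact h1
      | succ m ih => rw [pow_succ]; exact hmul _ ih _ hx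
    rwa [ev_trR, _root_.one_mul] at h0
  haveI : Algebra.FiniteType K (((K ⊗[R] A) ⧸ Q) ⊗[K] ((K ⊗[R] A) ⧸ Q)) :=
    Algebra.FiniteType.trans (S := (K ⊗[R] A) ⧸ Q) inferInstance inferInstance
  haveI : IsDomain (((K ⊗[R] A) ⧸ Q) ⊗[K] ((K ⊗[R] A) ⧸ Q)) := isDomain_tensor_ft
  haveI := isReduced_of_isDomain' (((K ⊗[R] A) ⧸ Q) ⊗[K] ((K ⊗[R] A) ⧸ Q))
  haveI hcoideal : (Q.restrictScalars K).IsCoideal :=
    { counit_eq_zero := fun f hf => by
        rw [← ev_one (R := R) (A := A)]
        exact RingHom.mem_ker.1 (h1 hf)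
      map_mkQ_comul_eq_zero := fun f hf => by
        let mk2 := Algebra.TensorProduct.map (Ideal.Quotient.mkₐ K Q) (Ideal.Quotient.mkₐ K Q)
        show mk2 (Coalgebra.comul (R := K) f) = (0 : ((K ⊗[R] A) ⧸ Q) ⊗[K] ((K ⊗[R] A) ⧸ Q))
        refine eq_zero_of_forall_hom (K := K) (X := ((K ⊗[R] A) ⧸ Q) ⊗[K] ((K ⊗[R] A) ⧸ Q)) fun g => ?_
        let g₁ : K ⊗[R] A →ₐ[K] K := (g.comp Algebra.TensorProduct.includeLeft).comp (Ideal.Quotient.mkₐ K Q)
        let g₂ : K ⊗[R] A →ₐ[K] K := (g.comp Algebra.TensorProduct.includeRight).comp (Ideal.Quotient.mkₐ K Q)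
        have hmem : ∀ g₀ : K ⊗[R] A →ₐ[K] K, Q ≤ RingHom.ker g₀ →
            relEquiv R A K (toConv g₀) ∈ zeros Q := fun g₀ hg₀ z hz => by
          rw [RingHom.mem_ker, show ev (B := K) (relEquiv R A K (toConv g₀)) = g₀ from ev_restrict g₀]
          exact RingHom.mem_ker.1 (hg₀ hz)
        have hg₁ : Q ≤ RingHom.ker g₁ := fun z hz => by simp [g₁, Ideal.Quotient.eq_zero_iff_mem.2 hz]
        have hg₂ : Q ≤ RingHom.ker g₂ := fun z hz => by simp [g₂, Ideal.Quotient.eq_zero_iff_mem.2 hz]
        have h3 := RingHom.mem_ker.1 (hmul _ (hmem g₁ hg₁) _ (hmem g₂ hg₂) hf)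
        rw [ev_mul] at h3
        rw [show ev (B := K) (relEquiv R A K (toConv g₁)) = g₁ from ev_restrict g₁,
          show ev (B := K) (relEquiv R A K (toConv g₂)) = g₂ from ev_restrict g₂] at h3
        refine Eq.trans ?_ h3
        show (g.comp mk2) _ = _
        congr 1
        exact Algebra.TensorProduct.ext (AlgHom.ext fun a => by simp [mk2, g₁]) (AlgHom.ext fun a => by simp [mk2, g₂]) }
  haveI : Q.IsHopfIdeal K :=
    { antipode_mem := fun f hf => mem_of_zeros fun w hw => by
        have h2 := RingHom.mem_ker.1 (hinv w hw hf)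
        rw [show w⁻¹ = relEquiv R A K ((relEquiv R A K).symm w)⁻¹ by
          rw [map_inv, MulEquiv.apply_symm_apply]] at h2
        rw [show ev (B := K) (relEquiv R A K ((relEquiv R A K).symm w)⁻¹) = ((relEquiv R A K).symm w)⁻¹.ofConv from
          ev_restrict _] at h2
        exact h2 }
  let q := Bialgebra.Quotient.mkBialgHom (R := K) Q
  let U := (specGrp K ((K ⊗[R] A) ⧸ Q)).X
  let rU : U ⟶ (specGrp K (K ⊗[R] A)).X :=
    Spec.mapMulEquiv (toConv (q : K ⊗[R] A →ₐ[K] (K ⊗[R] A) ⧸ Q))
  haveI : IsMonHom rU :=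
    ((hopfSpec (CommRingCat.of K)).map (CommHopfAlgCat.ofHom (X := K ⊗[R] A) (Y := (K ⊗[R] A) ⧸ Q) q).op).hom.isMonHom_hom
  haveI : IsClosedImmersion rU.left :=
    IsClosedImmersion.spec_of_surjective (CommRingCat.ofHom (q : K ⊗[R] A →ₐ[K] (K ⊗[R] A) ⧸ Q).toRingHom)
      Ideal.Quotient.mk_surjective
  let i : U ⟶ G := rU ≫ e.hom
  haveI : IsIso e.hom.left := inferInstanceAs (IsIso ((Over.forget _).map e.hom))
  haveI : IsClosedImmersion i.left := inferInstanceAs (IsClosedImmersion (rU.left ≫ e.hom.left))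
  haveI : Mono i := GrpField.SchImg.mono_of_isClosedImmersion i
  haveI : IsIntegral U.left := inferInstanceAs (IsIntegral (Spec (CommRingCat.of ((K ⊗[R] A) ⧸ Q))))
  haveI : ConnectedSpace U.left := inferInstance
  haveI : LocallyOfFiniteType U.hom := (HasRingHomProperty.Spec_iff (P := @LocallyOfFiniteType)).2
    (RingHom.finiteType_algebraMap.2 (inferInstance : Algebra.FiniteType K ((K ⊗[R] A) ⧸ Q)))
  haveI : IsAffine U.left := inferInstanceAs (IsAffine (Spec (CommRingCat.of ((K ⊗[R] A) ⧸ Q))))
  haveI : IsAffineHom U.hom := isAffineHom_of_isAffine (f := U.hom)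
  haveI : QuasiCompact U.hom := inferInstance
  haveI : Smooth U.hom := by
    letI : GrpObj (Over.mk U.hom) := (inferInstance : GrpObj U)
    exact GrpBasic.smooth_of_grpObj_perfect (K := K) U.hom
  -- rational points
  let eU : (specGrp K ((K ⊗[R] A) ⧸ Q)).X ≅ U := Iso.refl _
  haveI : IsMonHom eU.hom := inferInstanceAs (IsMonHom (𝟙 _))
  have hpt : ∀ u : RP U, ev (B := K) (ptG e (u ≫ i)) =
      (ProjRep.ptsEquiv eU u).ofConv.comp (Ideal.Quotient.mkₐ K Q) := fun u => by
    rw [ev_ptG, ptsEquiv_comp eU e i (q : K ⊗[R] A →ₐ[K] (K ⊗[R] A) ⧸ Q) (by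
      show 𝟙 _ ≫ rU.left ≫ e.hom.left = _
      rw [Category.id_comp]; rfl)]
    rfl
  have hptmem : ∀ u : RP U, ptG e (u ≫ i) ∈ zeros Q := fun u z hz => by
    rw [RingHom.mem_ker, hpt]
    simp [Ideal.Quotient.eq_zero_iff_mem.2 hz]
  have hlift : ∀ g : RP G, ptG e g ∈ zeros Q → ∃ u : RP U, u ≫ i = g := fun g hg => by
    let φ : (K ⊗[R] A) ⧸ Q →ₐ[K] K := Ideal.Quotient.liftₐ Q (ev (ptG e g)) fun z hz => hg hz
    refine ⟨(ProjRep.ptsEquiv eU).symm (toConv φ), (ptG e).injective ?_⟩
    refine WithConv.ext (AlgHom.ext fun a => ?_)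
    have h2 := congrArg (fun ψ : K ⊗[R] A →ₐ[K] K => ψ ((1 : K) ⊗ₜ[R] a)) (hpt ((ProjRep.ptsEquiv eU).symm (toConv φ)))
    simp only [ev_tmul, map_one, _root_.one_mul, MulEquiv.apply_symm_apply, AlgHom.comp_apply] at h2
    rw [h2]
    simp [φ]
  -- normal
  have hnorm : AlgGrp.IsNormalHom i := by
    haveI : Smooth (G ⊗ U).hom := by
      haveI : Smooth G.hom := by
        rw [← Over.w e.inv]
        haveI : IsIso e.inv.left := inferInstanceAs (IsIso ((Over.forget _).map e.inv))
        haveI : Smooth (specGrp K (K ⊗[R] A)).X.hom := (HasRingHomProperty.Spec_iff (P := @Smooth)).2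
          (RingHom.smooth_algebraMap.2 (inferInstance : Algebra.Smooth K (K ⊗[R] A)))
        infer_instance
      show Smooth (pullback.fst G.hom U.hom ≫ G.hom)
      infer_instance
    haveI : IsReduced (G ⊗ U).left := SmoothRed.isReduced_of_smooth_scheme (G ⊗ U).hom
    obtain ⟨ν, hν⟩ := BorelFixed.exists_lift_rp (fst G U * (snd G U ≫ i) * (fst G U)⁻¹) i fun z => by
      obtain ⟨u, hu⟩ := hlift ((z ≫ fst G U) * ((z ≫ snd G U) ≫ i) * (z ≫ fst G U)⁻¹) (by
        rw [map_mul, map_mul, map_inv]
        exact hconj _ _ (hptmem _))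
      refine ⟨rpt u, ?_⟩
      rw [map_rpt, hu, MonObj.comp_mul, MonObj.comp_mul, GrpObj.comp_inv, Category.assoc]
    intro S g z
    refine ⟨lift g z ≫ ν, ?_⟩
    rw [Category.assoc, hν, MonObj.comp_mul, MonObj.comp_mul, GrpObj.comp_inv, CartesianMonoidalCategory.lift_snd_assoc, CartesianMonoidalCategory.lift_fst]
  -- no subtori
  have hUt : Red.HasNoSubtorus K U := by
    intro T _ j _ _ hT
    obtain ⟨C, _, _, eT, heT, hCft, hCdom, M₀, _, ⟨E⟩⟩ := exists_hopf_torus hT
    haveI := heT; haveI := hCft; haveI := hCdom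
    haveI := isAffine_of_isTorus hT
    haveI := locallyOfFiniteType_of_isTorus hT
    haveI : IsAffineHom T.hom := isAffineHom_of_isAffine T.hom
    haveI : QuasiCompact T.hom := inferInstance
    haveI : IsAffineHom j.left := isAffineHom_of_isAffine j.left
    haveI : QuasiCompact j.left := inferInstance
    haveI : IsClosedImmersion j.left := GrpField.isClosedImmersion_of_mono j
    haveI : IsIso eT.hom.left := inferInstanceAs (IsIso ((Over.forget _).map eT.hom))
    let v₀ : (specGrp K C).X ⟶ (specGrp K (K ⊗[R] A)).X := eT.hom ≫ j ≫ rU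
    haveI : IsMonHom v₀ := by dsimp [v₀]; infer_instance
    obtain ⟨jh, hjh⟩ := MTBridge.exists_bialgHom v₀
    have hsurj : Function.Surjective jh := by
      haveI : IsClosedImmersion v₀.left :=
        inferInstanceAs (IsClosedImmersion (eT.hom.left ≫ j.left ≫ rU.left))
      let φ : CommRingCat.of (K ⊗[R] A) ⟶ CommRingCat.of C := CommRingCat.ofHom (jh : K ⊗[R] A →ₐ[K] C).toRingHom
      haveI : IsClosedImmersion (Spec.map φ) := hjh ▸ ‹IsClosedImmersion v₀.left›
      have hs := (IsClosedImmersion.isAffine_surjective_of_isAffine (Spec.map φ)).2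
      intro c
      obtain ⟨a, ha⟩ := hs ((Scheme.ΓSpecIso _).inv c)
      refine ⟨(Scheme.ΓSpecIso (CommRingCat.of (K ⊗[R] A))).hom a, ?_⟩
      show φ ((Scheme.ΓSpecIso _).hom a) = c
      rw [← CommRingCat.comp_apply, ← Scheme.ΓSpecIso_naturality, CommRingCat.comp_apply, ha,
        Iso.inv_hom_id_apply]
    have hz : ∀ (z : RP T) (f : K ⊗[R] A),
        ev (B := K) (ptG e ((z ≫ j) ≫ i)) f = (ProjRep.ptsEquiv eT z).ofConv (jh f) := fun z f => by
      rw [ev_ptG, Category.assoc, ptsEquiv_comp eT e (j ≫ i) (jh : K ⊗[R] A →ₐ[K] C) (by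
        rw [← Over.comp_left, show eT.hom ≫ j ≫ i = v₀ ≫ e.hom by simp [v₀, i], Over.comp_left, hjh]) z]
      rfl
    have hχ : ∀ m : M₀, E.symm (MonoidAlgebra.single m 1) = 1 := fun m => by
      let χ := E.symm (MonoidAlgebra.single m 1)
      obtain ⟨f, hf⟩ := hsurj χ
      have hglike : Coalgebra.comul (R := K) χ = χ ⊗ₜ[K] χ ∧ Coalgebra.counit (R := K) χ = 1 := by
        have hg : IsGroupLikeElem K (MonoidAlgebra.single m (1 : K)) :=
          ⟨by simp, by simp⟩
        have hg' := hg.map E.symm
        exact ⟨hg'.comul_eq_tmul_self, hg'.counit_eq_one⟩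
      have hone : ∀ z : RP T, (ProjRep.ptsEquiv eT z).ofConv χ = 1 := fun z => by
        obtain ⟨D, hD⟩ := huQ.exists_polySeq_ev f
        let c := (ProjRep.ptsEquiv eT z).ofConv χ
        have hpow : ∀ l : ℕ, (ProjRep.ptsEquiv eT z ^ l).ofConv χ = c ^ l := by
          intro l
          induction l with
          | zero => rw [pow_zero, pow_zero]; exact (Takeuchi.one_apply χ).trans (by rw [hglike.2, map_one])
          | succ l ih =>
            rw [pow_succ, pow_succ]
            refine (Takeuchi.mul_apply _ _ χ).trans ?_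
            rw [hglike.1, Algebra.TensorProduct.lift_tmul, ih]
        have h3 := hD _ (hptmem (z ≫ j))
        let P : Matrix (Fin 1) (Fin 1) K := fun _ _ => c
        have hP : ∀ l, (P ^ l) 0 0 = c ^ l := by
          intro l
          induction l with
          | zero => simp
          | succ l ih => simp [pow_succ, Matrix.mul_apply, ih, P]
        have h4 := pow_sub_one_eq_zero P D fun a b => by
          fin_cases a; fin_cases b
          refine Eq.mp ?_ h3
          congr 1
          funext l
          rw [show (ptG e ((z ≫ j) ≫ i)) ^ l = ptG e (((z ^ l) ≫ j) ≫ i) by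
            rw [← map_pow]; congr 1
            induction l with
            | zero => rw [pow_zero, pow_zero, MonObj.one_comp, MonObj.one_comp]
            | succ l ih => rw [pow_succ, pow_succ, MonObj.mul_comp, MonObj.mul_comp, ih], hz, map_pow, hf, hpow]
          exact (hP l).symm
        have h5 : (c - 1) ^ D = 0 := by
          have hQ' : ∀ l, ((P - 1) ^ l) 0 0 = (c - 1) ^ l := by
            intro l
            induction l with
            | zero => simp
            | succ l ih => simp [pow_succ, Matrix.mul_apply, ih, P]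
          rw [← hQ', h4]; rfl
        exact sub_eq_zero.1 (pow_eq_zero_iff'.1 h5).1
      refine sub_eq_zero.1 (eq_zero_of_forall_hom (K := K) fun g => ?_)
      have := hone ((ProjRep.ptsEquiv eT).symm (toConv g))
      rw [MulEquiv.apply_symm_apply] at this
      rw [map_sub, map_one]
      exact sub_eq_zero.2 this
    have hbij : Function.Bijective (algebraMap K C) := ⟨(algebraMap K C).injective, fun c => by
      rw [← E.symm_apply_apply c]
      induction (E c) using MonoidAlgebra.induction_linear with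
      | zero => exact ⟨0, by simp⟩
      | add x y hx hy =>
        obtain ⟨a, ha⟩ := hx; obtain ⟨b, hb⟩ := hy
        exact ⟨a + b, by rw [map_add, map_add, ha, hb]⟩
      | single m a =>
        refine ⟨a, ?_⟩
        rw [show MonoidAlgebra.single m a = a • MonoidAlgebra.single m (1 : K) by simp, map_smul, hχ,
          Algebra.algebraMap_eq_smul_one]⟩
    haveI : IsIso (CommRingCat.ofHom (algebraMap K C)) := (ConcreteCategory.isIso_iff_bijective _).2 hbij
    show IsIso T.hom
    rw [← Over.w eT.inv]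
    haveI : IsIso eT.inv.left := inferInstanceAs (IsIso ((Over.forget _).map eT.inv))
    exact inferInstanceAs (IsIso (eT.inv.left ≫ Spec.map (CommRingCat.ofHom (algebraMap K C))))
  -- contradiction
  have htriv : IsIso U.hom := h U i inferInstance inferInstance inferInstance hnorm hUt
  refine hQinf ((Set.finite_singleton (1 : Pts R A K)).subset fun w hw => ?_)
  obtain ⟨u, hu⟩ := hlift ((ptG e).symm w) (by rwa [MulEquiv.apply_symm_apply])
  haveI := htriv
  have hu1 : u = 1 := Over.OverMorphism.ext ((cancel_mono U.hom).1 ((Over.w u).trans (Over.w (1 : RP U)).symm))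
  rw [hu1, MonObj.one_comp] at hu
  rw [Set.mem_singleton_iff, ← (ptG e).apply_symm_apply w, ← hu, map_one]

end Groth.Agent.RedOpen
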