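import Groth.Agent.RedOpen.Spec
import Groth.Agent.ConsSet.Basic
import Groth.Agent.SmoothRed.Basic
import Groth.Agent.Comod.Coeff
import Groth.Agent.MultT.DualSplit
import Mathlib.RingTheory.Spectrum.Prime.Chevalley
import Mathlib.RingTheory.Valuation.LocalSubring
import Mathlib.RingTheory.Smooth.Basic
import Mathlib.FieldTheory.IsAlgClosed.AlgebraicClosure
import Mathlib.RingTheory.LocalRing.ResidueField.Ideal

/-!
# The criterion holds on an open subset of the base
-/

set_option autoImplicit false
set_option linter.style.haveILetI false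
set_option linter.unusedSectionVars false
set_option maxHeartbeats 800000
set_option synthInstance.maxHeartbeats 100000

universe u v

open TensorProduct WithConv Topology
open scoped Groth.Agent.Takeuchi

noncomputable section

namespace Groth.Agent.RedOpen

variable {R A : Type u} [CommRing R] [CommRing A] [HopfAlgebra R A] [Algebra.Smooth R A]

theorem finiteType_of_smooth : Algebra.FiniteType R A := Algebra.FiniteType.of_finitePresentation

theorem isReduced_fun (K : Type u) [Field K] [Algebra R K] : IsReduced (K ⊗[R] A) :=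
  SmoothRed.isReduced_of_field K _

theorem isReduced_U2 (K : Type u) [Field K] [Algebra R K] : IsReduced (U2 R A K) := by
  haveI : Algebra.Smooth A (A ⊗[R] A) := inferInstance
  haveI : Algebra.Smooth R (A ⊗[R] A) := Algebra.Smooth.comp R A (A ⊗[R] A)
  exact SmoothRed.isReduced_of_field K _

section Field

variable {K : Type u} [Field K] [Algebra R K]

omit [Algebra.Smooth R A] in
theorem ev_mul (u v : Pts R A K) (x : K ⊗[R] A) :
    ev (u * v) x = Algebra.TensorProduct.lift (ev (B := K) u) (ev (B := K) v) (fun _ _ => Commute.all _ _)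
      (Coalgebra.comul (R := K) x) := by
  have h : ev (B := K) (u * v) = (Algebra.TensorProduct.lift (ev (B := K) u) (ev (B := K) v) fun _ _ =>
      Commute.all _ _).comp (Bialgebra.comulAlgHom K (K ⊗[R] A)) := by
    refine Algebra.TensorProduct.ext (Subsingleton.elim _ _) (AlgHom.ext fun a => ?_)
    show ev (u * v) ((1 : K) ⊗ₜ[R] a) = _
    rw [ev_tmul, map_one, one_mul]
    show _ = Algebra.TensorProduct.lift (ev (B := K) u) (ev (B := K) v) (fun _ _ => Commute.all _ _)
      (Coalgebra.comul (R := K) ((1 : K) ⊗ₜ[R] a))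
    rw [MultT.comul_eq_distrib, LinearMap.baseChange_tmul]
    refine (Takeuchi.mul_apply u v a).trans ?_
    generalize CoalgebraStruct.comul (R := R) a = z
    induction z using TensorProduct.induction_on with
    | zero => simp
    | add z w hz hw => simp only [map_add, TensorProduct.tmul_add, hz, hw]
    | tmul b c => simp [TensorProduct.AlgebraTensorModule.distribBaseChange_tmul]
  exact AlgHom.congr_fun h x

omit [Algebra.Smooth R A] in
theorem ev_one (x : K ⊗[R] A) : ev (1 : Pts R A K) x = Coalgebra.counit (R := K) x := by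
  have h : ev (B := K) (1 : Pts R A K) = Bialgebra.counitAlgHom K (K ⊗[R] A) := by
    refine Algebra.TensorProduct.ext (Subsingleton.elim _ _) (AlgHom.ext fun a => ?_)
    show ev (1 : Pts R A K) ((1 : K) ⊗ₜ[R] a) = Coalgebra.counit (R := K) ((1 : K) ⊗ₜ[R] a)
    rw [ev_tmul, map_one, one_mul, Takeuchi.one_apply, TensorProduct.counit_tmul, CommSemiring.counit_apply,
      Algebra.algebraMap_eq_smul_one]
  exact AlgHom.congr_fun h x

/-- A generating representation over an algebraically closed field. -/
theorem exists_generating [IsAlgClosed K] :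
    ∃ (n : ℕ) (M : Matrix (Fin n) (Fin n) (K ⊗[R] A)), IsRep M ∧
      Algebra.adjoin K (Set.range fun p : Fin n × Fin n => M p.1 p.2) = ⊤ := by
  classical
  haveI := finiteType_of_smooth (R := R) (A := A)
  haveI := isReduced_U2 (R := R) (A := A) K
  obtain ⟨s, hs⟩ := (Algebra.FiniteType.out : (⊤ : Subalgebra K (K ⊗[R] A)).FG)
  obtain ⟨n, M, hM, hMs⟩ := Comod.exists_corep_of_finset K s
  refine ⟨n, M, isRep_of_points (fun u v => ?_) ?_, top_le_iff.1 (hs ▸ Algebra.adjoin_le fun x hx => ?_)⟩
  · ext i j
    have h1 := congrFun (congrFun hM.map_comul i) j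
    simp only [Matrix.map_apply, Bialgebra.comulAlgHom_apply] at h1
    show ev (u * v) (M i j) = (evM u M * evM v M) i j
    rw [ev_mul, h1]
    simp [Matrix.mul_apply, evM]
  · ext i j
    show ev (1 : Pts R A K) (M i j) = _
    rw [ev_one]
    exact congrFun (congrFun hM.map_counit i) j
  · exact (Submodule.span_le (p := Subalgebra.toSubmodule (Algebra.adjoin K (Set.range fun p : Fin n × Fin n => M p.1 p.2)))).2
      Algebra.subset_adjoin (hMs x hx)

end Field

/-- The criterion ascends along field extensions. -/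
theorem good_of_hom {K L : Type u} [Field K] [IsAlgClosed K] [Algebra R K] [Field L] [Algebra R L]
    (φ : K →ₐ[R] L) (h : Good R A K) : Good R A L := by
  haveI := finiteType_of_smooth (R := R) (A := A)
  obtain ⟨B, -, hB⟩ := h.exists_witness
  exact (hB.map (φ.comp B.val)).good

/-- The criterion descends along extensions of algebraically closed fields. -/
theorem good_of_ext {K L : Type u} [Field K] [IsAlgClosed K] [Algebra R K] [Field L] [IsAlgClosed L] [Algebra R L]
    (φ : K →ₐ[R] L) (h : Good R A L) : Good R A K := by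
  haveI := finiteType_of_smooth (R := R) (A := A)
  obtain ⟨B, hB, hW⟩ := h.exists_witness
  obtain ⟨s, rfl⟩ := hB
  letI := φ.toRingHom.toAlgebra
  haveI : IsScalarTower R K L := .of_algebraMap_eq fun r => (φ.commutes r).symm
  let B' := Algebra.adjoin K (s : Set L)
  haveI : Algebra.FiniteType K B' := (Subalgebra.fg_iff_finiteType B').1 ⟨s, rfl⟩
  obtain ⟨m, hm⟩ := Ideal.exists_maximal B'
  let := Ideal.Quotient.field m
  haveI : Module.Finite K (B' ⧸ m) := finite_of_finite_type_of_isJacobsonRing K _
  let e : K ≃ₐ[K] B' ⧸ m := AlgEquiv.ofBijective (Algebra.ofId K _)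
    (IsAlgClosed.algebraMap_bijective_of_isIntegral (k := K))
  let g : B' →ₐ[R] K := (e.symm.toAlgHom.comp (Ideal.Quotient.mkₐ K m)).restrictScalars R
  have hle : Algebra.adjoin R (s : Set L) ≤ B'.restrictScalars R := Algebra.adjoin_le Algebra.subset_adjoin
  exact (hW.map (g.comp (Subalgebra.inclusion hle : _ →ₐ[R] B'))).good

variable (R A) in
/-- The locus of the criterion. -/
def goodSet : Set (PrimeSpectrum R) := {p | Good R A (AlgebraicClosure p.asIdeal.ResidueField)}

theorem exists_hom_of_ker {p : Ideal R} [p.IsPrime] {L : Type u} [Field L] [IsAlgClosed L] [Algebra R L]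
    (h : RingHom.ker (algebraMap R L) = p) : Nonempty (AlgebraicClosure p.ResidueField →ₐ[R] L) := by
  have hu : p.primeCompl ≤ (IsUnit.submonoid L).comap (algebraMap R L) := fun x hx =>
    IsUnit.mk0 _ fun hx0 => hx (h ▸ RingHom.mem_ker.2 hx0)
  let ψ : p.ResidueField →ₐ[R] L := Ideal.ResidueField.liftₐ p (Algebra.ofId R L) h.ge hu
  letI := ψ.toRingHom.toAlgebra
  haveI : IsScalarTower R p.ResidueField L := .of_algebraMap_eq fun r => (ψ.commutes r).symm
  exact ⟨(IsAlgClosed.lift : AlgebraicClosure p.ResidueField →ₐ[p.ResidueField] L).restrictScalars R⟩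

theorem ker_algebraMap_algClosure (p : Ideal R) [p.IsPrime] :
    RingHom.ker (algebraMap R (AlgebraicClosure p.ResidueField)) = p := by
  ext x
  rw [RingHom.mem_ker, IsScalarTower.algebraMap_apply R p.ResidueField (AlgebraicClosure p.ResidueField),
    map_eq_zero_iff _ (algebraMap p.ResidueField _).injective, Ideal.algebraMap_residueField_eq_zero]

/-- The locus is stable under generization. -/
theorem mem_goodSet_of_le {p q : PrimeSpectrum R} (hpq : p.asIdeal ≤ q.asIdeal) (hq : q ∈ goodSet R A) :
    p ∈ goodSet R A := by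
  classical
  haveI := finiteType_of_smooth (R := R) (A := A)
  let K := AlgebraicClosure p.asIdeal.ResidueField
  haveI := isReduced_fun (R := R) (A := A) K
  haveI := isReduced_U2 (R := R) (A := A) K
  obtain ⟨n, M, hM, hgen⟩ := exists_generating (R := R) (A := A) (K := K)
  refine good_of_forall hM hgen fun H hH hu => by_contra fun hinf => ?_
  haveI := hH
  obtain ⟨Q, hQp, h1, hmul, hconj, huQ, hQinf⟩ := exists_irreducible H hu hinf
  -- a valuation ring over the specialisation
  let θ : R →+* K := algebraMap R K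
  let I : Ideal θ.range := q.asIdeal.map θ.rangeRestrict
  haveI : I.IsPrime := Ideal.map_isPrime_of_surjective θ.rangeRestrict_surjective (by
    rw [RingHom.ker_rangeRestrict, ker_algebraMap_algClosure]; exact hpq)
  have hI : I ≠ ⊤ := Ideal.IsPrime.ne_top inferInstance
  haveI := ‹I.IsPrime›
  obtain ⟨V, hV⟩ := (LocalSubring.ofPrime θ.range I).exists_le_valuationSubring
  have hRV : ∀ r, θ r ∈ V := fun r => hV.1 (LocalSubring.le_ofPrime _ _ ⟨r, rfl⟩)
  letI : Algebra R V := (θ.codRestrict V.toSubring hRV).toAlgebra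
  haveI : IsScalarTower R V K := .of_algebraMap_eq fun r => rfl
  let m := IsLocalRing.maximalIdeal V
  let Ω := AlgebraicClosure m.ResidueField
  have hker : RingHom.ker (algebraMap R Ω) = q.asIdeal := by
    ext x
    rw [RingHom.mem_ker, IsScalarTower.algebraMap_apply R V Ω, IsScalarTower.algebraMap_apply V m.ResidueField Ω,
      map_eq_zero_iff _ (algebraMap m.ResidueField Ω).injective, Ideal.algebraMap_residueField_eq_zero]
    have hloc := hV.2
    let y : θ.range := θ.rangeRestrict x
    have hy : y ∈ I ↔ x ∈ q.asIdeal := by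
      rw [← Ideal.mem_comap, Ideal.comap_map_of_surjective _ θ.rangeRestrict_surjective]
      refine ⟨fun h => ?_, fun h => Ideal.mem_sup_left h⟩
      have hk : Ideal.comap θ.rangeRestrict ⊥ ≤ q.asIdeal := fun z hz => hpq (by
        rw [← ker_algebraMap_algClosure p.asIdeal, ← RingHom.ker_rangeRestrict]
        exact hz)
      exact sup_le le_rfl hk h
    rw [← hy, IsLocalRing.mem_maximalIdeal, mem_nonunits_iff]
    let a : (LocalSubring.ofPrime θ.range I).toSubring := ⟨θ x, LocalSubring.le_ofPrime _ _ y.2⟩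
    have ha : IsUnit (algebraMap R V x) ↔ IsUnit a := by
      refine ⟨fun h => hloc.map_nonunit a (by exact h), fun h => ?_⟩
      exact h.map (Subring.inclusion hV.1)
    rw [ha, ← mem_nonunits_iff, ← IsLocalRing.mem_maximalIdeal,
      show a = algebraMap θ.range (LocalSubring.ofPrime θ.range I).toSubring y from rfl]
    exact IsLocalization.AtPrime.to_map_mem_maximal_iff _ I y
  obtain ⟨φ⟩ := exists_hom_of_ker hker
  have hΩ : Good R A Ω := good_of_hom φ hq
  -- the special points
  let P := Ideal.Quotient.mkₐ K Q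
  have hP : Function.Surjective P := Ideal.Quotient.mk_surjective
  have hkP : RingHom.ker P = Q := Ideal.mk_ker
  rw [← hkP] at h1 hmul hconj huQ hQinf
  haveI : Algebra.FiniteType K ((K ⊗[R] A) ⧸ Q) := inferInstance
  let S : Submonoid (Pts R A Ω) :=
    { carrier := spec (O := V) P Ω
      one_mem' := one_mem_spec (O := V) P hP h1
      mul_mem' := fun hu hv => mul_mem_spec (O := V) P hP hmul hu hv }
  exact not_finite_spec (O := V) P hP h1 hQinf Ω
    (hΩ.finite_of_isUni S (fun g h hh => conj_mem_spec (O := V) P hP hconj g hh) (isUni_spec (O := V) P hP huQ))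

/-- Constructible sets contain a neighbourhood in an irreducible set of its generic point. -/
theorem exists_open_of_isConstructible {X : Type u} [TopologicalSpace X] {Y : Set X} {η : X}
    (hη : ∀ U : Set X, IsOpen U → (U ∩ Y).Nonempty → η ∈ U) {s : Set X} (hs : IsConstructible s) :
    (η ∈ s → ∃ U, IsOpen U ∧ η ∈ U ∧ U ∩ Y ⊆ s) ∧ (η ∉ s → ∃ U, IsOpen U ∧ η ∈ U ∧ U ∩ Y ⊆ sᶜ) := by
  induction hs using IsConstructible.empty_union_induction with
  | open_retrocompact U hU _ =>
    exact ⟨fun h => ⟨U, hU, h, Set.inter_subset_left⟩, fun h => ⟨Set.univ, isOpen_univ, trivial, fun y hy hyU =>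
      h (hη U hU ⟨y, hyU, hy.2⟩)⟩⟩
  | union s _ t _ hs ht =>
    refine ⟨fun h => ?_, fun h => ?_⟩
    · rcases h with h | h
      · obtain ⟨U, hU, hηU, hUs⟩ := hs.1 h
        exact ⟨U, hU, hηU, hUs.trans Set.subset_union_left⟩
      · obtain ⟨U, hU, hηU, hUs⟩ := ht.1 h
        exact ⟨U, hU, hηU, hUs.trans Set.subset_union_right⟩
    · obtain ⟨U, hU, hηU, hUs⟩ := hs.2 fun h' => h (Or.inl h')
      obtain ⟨W, hW, hηW, hWs⟩ := ht.2 fun h' => h (Or.inr h')
      exact ⟨U ∩ W, hU.inter hW, ⟨hηU, hηW⟩, fun y hy hys =>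
        hys.elim (hUs ⟨hy.1.1, hy.2⟩) (hWs ⟨hy.1.2, hy.2⟩)⟩
  | compl s _ hs =>
    refine ⟨hs.2, fun h => ?_⟩
    obtain ⟨U, hU, hηU, hUs⟩ := hs.1 (not_not.1 h)
    exact ⟨U, hU, hηU, by rwa [compl_compl]⟩

variable [IsNoetherianRing R]

/-- **The locus is open.** -/
theorem isOpen_goodSet : IsOpen (goodSet R A) := by
  classical
  refine isOpen_iff_mem_nhds.2 fun x hx => ConsSet.mem_nhds_of_irreducible fun Y hY hirr hxY => ?_
  obtain ⟨η, hη⟩ := QuasiSober.sober hirr hY
  have hηx : η.asIdeal ≤ x.asIdeal := (PrimeSpectrum.le_iff_specializes η x).2 (hη.specializes hxY)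
  haveI := finiteType_of_smooth (R := R) (A := A)
  obtain ⟨B, hB, hW⟩ := (mem_goodSet_of_le hηx hx : Good R A _).exists_witness
  haveI : Algebra.FiniteType R B := (Subalgebra.fg_iff_finiteType B).1 hB
  haveI : Algebra.FinitePresentation R B := (Algebra.FinitePresentation.of_finiteType).1 inferInstance
  let C := Set.range (PrimeSpectrum.comap (algebraMap R B))
  have hC : IsConstructible C :=
    PrimeSpectrum.isConstructible_range_comap (RingHom.finitePresentation_algebraMap.2 inferInstance)
  have hηC : η ∈ C := by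
    refine ⟨⟨⊥, Ideal.isPrime_bot⟩, PrimeSpectrum.ext ?_⟩
    show Ideal.comap (algebraMap R B) ⊥ = η.asIdeal
    rw [← RingHom.ker_eq_comap_bot]
    refine Eq.trans ?_ (ker_algebraMap_algClosure η.asIdeal)
    ext r
    simp only [RingHom.mem_ker]
    exact ⟨fun h => congrArg Subtype.val h, fun h => Subtype.ext h⟩
  have hCE : C ⊆ goodSet R A := by
    rintro _ ⟨P, rfl⟩
    let L := AlgebraicClosure P.asIdeal.ResidueField
    let g : B →ₐ[R] L := IsScalarTower.toAlgHom R B L
    obtain ⟨φ⟩ := exists_hom_of_ker (L := L) (p := (PrimeSpectrum.comap (algebraMap R B) P).asIdeal) (by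
      ext r
      rw [RingHom.mem_ker, IsScalarTower.algebraMap_apply R B L, ← RingHom.mem_ker, ker_algebraMap_algClosure]
      rfl)
    exact good_of_ext φ (hW.map g).good
  have hgen : ∀ U : Set (PrimeSpectrum R), IsOpen U → (U ∩ Y).Nonempty → η ∈ U :=
    fun U hU hne => (hη.mem_open_set_iff hU).2 (Set.inter_comm U Y ▸ hne)
  obtain ⟨U, hU, hηU, hUC⟩ := (exists_open_of_isConstructible hgen hC).1 hηC
  exact ⟨U, hU, ⟨η, hηU, hη.mem⟩, hUC.trans hCE⟩

end Groth.Agent.RedOpen
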