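import Mathlib.Algebra.Group.ForwardDiff
import Mathlib.Data.Matrix.Mul
import Mathlib.RingTheory.Adjoin.Basic
import Mathlib.Data.Matrix.Basic

/-!
# Sequences killed by an iterated difference, and unipotent matrices
-/

set_option autoImplicit false

universe u v w

open fwdDiff

namespace Groth.Agent.RedOpen

/-- The sequence is killed by the `D`-th iterated difference. -/
def PolySeq {K : Type u} [AddCommGroup K] (D : ℕ) (f : ℕ → K) : Prop := (Δ_[1])^[D] f = 0

section Add

variable {K : Type u} [AddCommGroup K] {L : Type v} [AddCommGroup L]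

theorem iter_zero (D : ℕ) : (Δ_[1])^[D] (0 : ℕ → K) = 0 := by
  induction D with
  | zero => rfl
  | succ D ih => rw [Function.iterate_succ_apply', ih]; funext m; simp [fwdDiff]

theorem PolySeq.mono {D E : ℕ} {f : ℕ → K} (h : PolySeq D f) (hDE : D ≤ E) : PolySeq E f := by
  obtain ⟨c, rfl⟩ := Nat.exists_eq_add_of_le hDE
  unfold PolySeq at *
  rw [Nat.add_comm, Function.iterate_add_apply, h, iter_zero]

theorem polySeq_succ_iff {D : ℕ} {f : ℕ → K} : PolySeq (D + 1) f ↔ PolySeq D (Δ_[1] f) := by
  unfold PolySeq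
  rw [Function.iterate_succ_apply]

theorem polySeq_zero (D : ℕ) : PolySeq D (0 : ℕ → K) := iter_zero D

theorem polySeq_const (c : K) : PolySeq 1 (fun _ : ℕ => c) := by
  funext m; simp [fwdDiff]

theorem PolySeq.add {D : ℕ} {f g : ℕ → K} (hf : PolySeq D f) (hg : PolySeq D g) : PolySeq D (f + g) := by
  unfold PolySeq at *
  rw [fwdDiff_iter_add, hf, hg, add_zero]

theorem iter_map (φ : K →+ L) (D : ℕ) (f : ℕ → K) (m : ℕ) :
    φ ((Δ_[1])^[D] f m) = (Δ_[1])^[D] (fun i => φ (f i)) m := by
  induction D generalizing f with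
  | zero => rfl
  | succ D ih =>
    rw [Function.iterate_succ_apply, Function.iterate_succ_apply, ih]
    have : (fun i => φ (Δ_[1] f i)) = Δ_[1] fun i => φ (f i) := by funext i; simp [fwdDiff, map_sub]
    rw [this]

theorem PolySeq.map {D : ℕ} {f : ℕ → K} (hf : PolySeq D f) (φ : K →+ L) : PolySeq D fun i => φ (f i) := by
  funext m
  rw [← iter_map, hf]
  simp

theorem PolySeq.shift {D : ℕ} {f : ℕ → K} (hf : PolySeq D f) : PolySeq D fun m => f (m + 1) := by
  funext m
  rw [fwdDiff_iter_comp_add, hf]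
  rfl

end Add

section Ring

variable {K : Type u} [CommRing K]

theorem PolySeq.smul {D : ℕ} {f : ℕ → K} (hf : PolySeq D f) (c : K) : PolySeq D fun m => c * f m :=
  hf.map (AddMonoidHom.mulLeft c)

theorem polySeq_mul_aux : ∀ (n D E : ℕ), D + E = n → ∀ (f g : ℕ → K), PolySeq D f → PolySeq E g →
    PolySeq n (f * g) := by
  intro n
  induction n with
  | zero =>
    intro D E h f g hf _
    obtain ⟨rfl, rfl⟩ : D = 0 ∧ E = 0 := by omega
    unfold PolySeq at *
    simp only [Function.iterate_zero, id_eq] at *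
    rw [hf, zero_mul]
  | succ n ih =>
    intro D E h f g hf hg
    rcases Nat.eq_zero_or_pos D with rfl | hD
    · have hf0 : f = 0 := hf
      rw [hf0, zero_mul]; exact polySeq_zero _
    rcases Nat.eq_zero_or_pos E with rfl | hE
    · have hg0 : g = 0 := hg
      rw [hg0, mul_zero]; exact polySeq_zero _
    obtain ⟨D, rfl⟩ := Nat.exists_eq_succ_of_ne_zero hD.ne'
    obtain ⟨E, rfl⟩ := Nat.exists_eq_succ_of_ne_zero hE.ne'
    rw [polySeq_succ_iff]
    have key : Δ_[1] (f * g) = (Δ_[1] f) * (fun m => g (m + 1)) + f * (Δ_[1] g) := by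
      funext m; simp [fwdDiff]; ring
    rw [key]
    exact (ih D (E + 1) (by omega) _ _ (polySeq_succ_iff.1 hf) hg.shift).add
      (ih (D + 1) E (by omega) _ _ hf (polySeq_succ_iff.1 hg))

theorem PolySeq.mul {D E : ℕ} {f g : ℕ → K} (hf : PolySeq D f) (hg : PolySeq E g) : PolySeq (D + E) (f * g) :=
  polySeq_mul_aux _ D E rfl f g hf hg

variable {n : Type w} [Fintype n] [DecidableEq n]

theorem iter_pow (N : Matrix n n K) (D : ℕ) :
    (Δ_[1])^[D] (fun m => N ^ m) = fun m => N ^ m * (N - 1) ^ D := by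
  induction D with
  | zero => funext m; simp
  | succ D ih =>
    rw [Function.iterate_succ_apply', ih]
    funext m
    simp only [fwdDiff, pow_succ N m, ← sub_mul]
    rw [show N ^ m * N - N ^ m = N ^ m * (N - 1) by rw [mul_sub, mul_one], pow_succ' (N - 1) D, Matrix.mul_assoc]

/-- A matrix whose powers are polynomial sequences is unipotent. -/
theorem pow_sub_one_eq_zero (N : Matrix n n K) (D : ℕ) (h : ∀ i j, PolySeq D fun m => (N ^ m) i j) :
    (N - 1) ^ D = 0 := by
  ext i j
  have h1 := iter_map (Matrix.entryAddMonoidHom K i j) D (fun m => N ^ m) 0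
  rw [iter_pow] at h1
  simp only [pow_zero, one_mul, Matrix.entryAddMonoidHom_apply] at h1
  rw [h1]
  exact congrFun (h i j) 0

/-- The powers of a unipotent matrix are polynomial sequences. -/
theorem polySeq_pow (N : Matrix n n K) (D : ℕ) (h : (N - 1) ^ D = 0) (i j : n) :
    PolySeq D fun m => (N ^ m) i j := by
  have : PolySeq D fun m => N ^ m := by
    unfold PolySeq
    rw [iter_pow, h]
    funext m; simp
  exact this.map (Matrix.entryAddMonoidHom K i j)

end Ring

end Groth.Agent.RedOpen
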