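import Mathlib.RingTheory.HopfAlgebra.Convolution
import Mathlib.RingTheory.Jacobson.Ring
import Mathlib.RingTheory.Nullstellensatz
import Mathlib.RingTheory.Flat.Basic
import Mathlib.RingTheory.FiniteStability
import Mathlib.LinearAlgebra.Matrix.NonsingularInverse
import Groth.Agent.RedOpen.Seq
import Groth.Agent.Takeuchi.Points

/-!
# Points of a Hopf algebra over a base ring and matrix representations after base change
-/

set_option autoImplicit false
set_option linter.style.haveILetI false
set_option linter.unusedSectionVars false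

universe u v w

open TensorProduct WithConv
open scoped Groth.Agent.Takeuchi

noncomputable section

namespace Groth.Agent.RedOpen

variable {R A : Type u} [CommRing R] [CommRing A] [HopfAlgebra R A]

/-- The group of points with values in an algebra. -/
abbrev Pts (R A : Type u) [CommRing R] [CommRing A] [HopfAlgebra R A] (T : Type u) [CommRing T] [Algebra R T] :=
  WithConv (A →ₐ[R] T)

section Push

variable {T T' : Type u} [CommRing T] [Algebra R T] [CommRing T'] [Algebra R T']

/-- Points are functorial. -/
def push (φ : T →ₐ[R] T') : Pts R A T →* Pts R A T' where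
  toFun u := toConv (φ.comp u.ofConv)
  map_one' := by
    refine WithConv.ext (AlgHom.ext fun a => ?_)
    simp [AlgHom.convOne_apply]
  map_mul' u v := by
    refine WithConv.ext ?_
    exact AlgHom.comp_convMul_distrib φ u v

@[simp] theorem push_apply (φ : T →ₐ[R] T') (u : Pts R A T) (a : A) : (push φ u).ofConv a = φ (u.ofConv a) := rfl

end Push

section Ev

variable {B T : Type u} [CommRing B] [Algebra R B] [CommRing T] [Algebra R T] [Algebra B T] [IsScalarTower R B T]

/-- A point evaluates the functions with coefficients. -/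
def ev (u : Pts R A T) : B ⊗[R] A →ₐ[B] T :=
  Algebra.TensorProduct.lift (Algebra.ofId B T) u.ofConv fun _ _ => Commute.all _ _

@[simp] theorem ev_tmul (u : Pts R A T) (b : B) (a : A) : ev u (b ⊗ₜ[R] a) = algebraMap B T b * u.ofConv a := by
  simp [ev]

/-- Naturality of evaluation. -/
theorem ev_nat {B' T' : Type u} [CommRing B'] [Algebra R B'] [CommRing T'] [Algebra R T'] [Algebra B' T']
    [IsScalarTower R B' T'] (φ : B →ₐ[R] B') (ψ : T →ₐ[R] T')
    (h : ∀ b, ψ (algebraMap B T b) = algebraMap B' T' (φ b)) (u : Pts R A T) (x : B ⊗[R] A) :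
    ψ (ev u x) = ev (push ψ u) (Algebra.TensorProduct.map φ (AlgHom.id R A) x) := by
  induction x using TensorProduct.induction_on with
  | zero => simp
  | add x y hx hy => simp only [map_add, hx, hy]
  | tmul b a => simp [h]

/-- Naturality in the target. -/
theorem ev_push {T' : Type u} [CommRing T'] [Algebra R T'] [Algebra B T'] [IsScalarTower R B T'] (ψ : T →ₐ[B] T')
    (u : Pts R A T) (x : B ⊗[R] A) : ev (push (ψ.restrictScalars R) u) x = ψ (ev u x) := by
  induction x using TensorProduct.induction_on with
  | zero => simp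
  | add x y hx hy => simp only [map_add, hx, hy]
  | tmul b a => simp

/-- A hom on the functions with coefficients is a point. -/
theorem ev_restrict (g : B ⊗[R] A →ₐ[B] T) :
    ev (toConv ((g.restrictScalars R).comp Algebra.TensorProduct.includeRight) : Pts R A T) = g :=
  Algebra.TensorProduct.ext (Subsingleton.elim _ _) (AlgHom.ext fun a => by simp)

end Ev

section Rep

variable {B : Type u} [CommRing B] [Algebra R B] {T : Type u} [CommRing T] [Algebra R T] [Algebra B T]
  [IsScalarTower R B T] {n : Type w} [Fintype n] [DecidableEq n]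

/-- The value of a matrix of functions at a point. -/
def evM (u : Pts R A T) (M : Matrix n n (B ⊗[R] A)) : Matrix n n T := M.map (ev u)

variable (R A B) in
/-- The functions on pairs of points. -/
abbrev U2 := B ⊗[R] (A ⊗[R] A)

/-- The first universal point. -/
def uL : Pts R A (U2 R A B) :=
  toConv ((Algebra.TensorProduct.includeRight : A ⊗[R] A →ₐ[R] U2 R A B).comp Algebra.TensorProduct.includeLeft)

/-- The second universal point. -/
def uR : Pts R A (U2 R A B) :=
  toConv ((Algebra.TensorProduct.includeRight : A ⊗[R] A →ₐ[R] U2 R A B).comp Algebra.TensorProduct.includeRight)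

/-- The pairs of points give homs on the functions on pairs. -/
def pairHom (u v : Pts R A T) : U2 R A B →ₐ[B] T :=
  Algebra.TensorProduct.lift (Algebra.ofId B T)
    (Algebra.TensorProduct.lift u.ofConv v.ofConv fun _ _ => Commute.all _ _) fun _ _ => Commute.all _ _

theorem push_pairHom_uL (u v : Pts R A T) : push ((pairHom (B := B) u v).restrictScalars R) uL = u :=
  WithConv.ext (AlgHom.ext fun a => by simp [pairHom, uL])

theorem push_pairHom_uR (u v : Pts R A T) : push ((pairHom (B := B) u v).restrictScalars R) uR = v :=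
  WithConv.ext (AlgHom.ext fun a => by simp [pairHom, uR])

/-- A matrix of functions with coefficients is a representation. -/
structure IsRep (M : Matrix n n (B ⊗[R] A)) : Prop where
  mul : evM (uL * uR : Pts R A (U2 R A B)) M = evM uL M * evM uR M
  one : evM (1 : Pts R A B) M = 1

variable {M : Matrix n n (B ⊗[R] A)}

theorem evM_push {T' : Type u} [CommRing T'] [Algebra R T'] [Algebra B T'] [IsScalarTower R B T'] (ψ : T →ₐ[B] T')
    (u : Pts R A T) (M : Matrix n n (B ⊗[R] A)) :
    evM (push (ψ.restrictScalars R) u) M = (evM u M).map ψ := by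
  ext i j
  simp [evM, ev_push]

/-- A representation is multiplicative on points. -/
theorem IsRep.evM_mul (hM : IsRep M) (u v : Pts R A T) : evM (u * v) M = evM u M * evM v M := by
  have h := congrArg (fun N : Matrix n n (U2 R A B) => N.map (pairHom (B := B) u v)) hM.mul
  simp only [Matrix.map_mul] at h
  rw [← evM_push, ← evM_push, ← evM_push, map_mul, push_pairHom_uL, push_pairHom_uR] at h
  exact h

theorem IsRep.evM_one (hM : IsRep M) : evM (1 : Pts R A T) M = 1 := by
  have h := congrArg (fun N : Matrix n n B => N.map (Algebra.ofId B T)) hM.one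
  simp only [Matrix.map_one _ (map_zero _) (map_one _)] at h
  rw [← evM_push, map_one] at h
  exact h

/-- The representation on points. -/
def IsRep.hom (hM : IsRep M) : Pts R A T →* Matrix n n T where
  toFun u := evM u M
  map_one' := hM.evM_one
  map_mul' := hM.evM_mul

theorem IsRep.evM_pow (hM : IsRep M) (u : Pts R A T) (m : ℕ) : evM (u ^ m) M = evM u M ^ m :=
  map_pow hM.hom u m

section Map

variable {B' : Type u} [CommRing B'] [Algebra R B'] (φ : B →ₐ[R] B')

/-- The matrix with the coefficients changed. -/
def mapM (M : Matrix n n (B ⊗[R] A)) : Matrix n n (B' ⊗[R] A) :=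
  M.map (Algebra.TensorProduct.map φ (AlgHom.id R A))

theorem evM_nat {T' : Type u} [CommRing T'] [Algebra R T'] [Algebra B' T'] [IsScalarTower R B' T']
    (ψ : T →ₐ[R] T') (h : ∀ b, ψ (algebraMap B T b) = algebraMap B' T' (φ b)) (u : Pts R A T)
    (M : Matrix n n (B ⊗[R] A)) : evM (push ψ u) (mapM φ M) = (evM u M).map ψ := by
  ext i j
  simp [evM, mapM, ev_nat φ ψ h]

/-- Representations change coefficients. -/
theorem IsRep.mapM (hM : IsRep M) : IsRep (RedOpen.mapM φ M) := by
  let ψ : U2 R A B →ₐ[R] U2 R A B' := Algebra.TensorProduct.map φ (AlgHom.id R (A ⊗[R] A))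
  have hψ : ∀ b, ψ (algebraMap B (U2 R A B) b) = algebraMap B' (U2 R A B') (φ b) := fun b => by simp [ψ]
  have hL : push ψ (uL : Pts R A (U2 R A B)) = uL := WithConv.ext (AlgHom.ext fun a => by simp [ψ, uL])
  have hR : push ψ (uR : Pts R A (U2 R A B)) = uR := WithConv.ext (AlgHom.ext fun a => by simp [ψ, uR])
  constructor
  · rw [← hL, ← hR, ← map_mul, evM_nat φ ψ hψ, evM_nat φ ψ hψ, evM_nat φ ψ hψ, hM.mul, Matrix.map_mul]
  · rw [← map_one (push (A := A) φ), evM_nat φ φ (fun b => by simp), hM.one,
      Matrix.map_one _ (map_zero _) (map_one _)]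

/-- Representations descend along injections. -/
theorem IsRep.of_mapM [Module.Flat R A] (hφ : Function.Injective φ) (hM : IsRep (RedOpen.mapM φ M)) : IsRep M := by
  let ψ : U2 R A B →ₐ[R] U2 R A B' := Algebra.TensorProduct.map φ (AlgHom.id R (A ⊗[R] A))
  have hψ : ∀ b, ψ (algebraMap B (U2 R A B) b) = algebraMap B' (U2 R A B') (φ b) := fun b => by simp [ψ]
  have hL : push ψ (uL : Pts R A (U2 R A B)) = uL := WithConv.ext (AlgHom.ext fun a => by simp [ψ, uL])
  have hR : push ψ (uR : Pts R A (U2 R A B)) = uR := WithConv.ext (AlgHom.ext fun a => by simp [ψ, uR])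
  have hinj : Function.Injective ψ := by
    show Function.Injective (φ.toLinearMap.rTensor (A ⊗[R] A))
    exact Module.Flat.rTensor_preserves_injective_linearMap φ.toLinearMap hφ
  constructor
  · refine Matrix.map_injective hinj ?_
    show (evM _ M).map ψ = (evM uL M * evM uR M : Matrix n n (U2 R A B)).map ψ
    rw [Matrix.map_mul, ← evM_nat φ ψ hψ, ← evM_nat φ ψ hψ, ← evM_nat φ ψ hψ, map_mul, hL, hR]
    exact hM.mul
  · refine Matrix.map_injective hφ ?_
    show (evM _ M).map φ = (1 : Matrix n n B).map φ
    rw [← evM_nat φ φ (fun b => by simp), map_one, Matrix.map_one _ (map_zero _) (map_one _)]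
    exact hM.one

end Map

end Rep

/-- Points separate the functions of a reduced finite type algebra over an algebraically closed field. -/
theorem eq_zero_of_forall_hom {K : Type u} [Field K] [IsAlgClosed K] {X : Type u} [CommRing X] [Algebra K X]
    [Algebra.FiniteType K X] [IsReduced X] {x : X} (h : ∀ g : X →ₐ[K] K, g x = 0) : x = 0 := by
  haveI := isJacobsonRing_of_finiteType (A := K) (B := X)
  rw [← Ideal.mem_bot, ← (IsJacobsonRing.out' (⊥ : Ideal X) (Ideal.isRadical_iff_quotient_reduced _ |>.mpr
    (isReduced_of_injective _ (RingEquiv.quotientBot X).injective))), Ideal.jacobson, Submodule.mem_sInf]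
  rintro m ⟨-, hm⟩
  let := Ideal.Quotient.field m
  have : Module.Finite K (X ⧸ m) := finite_of_finite_type_of_isJacobsonRing K (X ⧸ m)
  let e : K ≃ₐ[K] X ⧸ m := AlgEquiv.ofBijective (Algebra.ofId K _)
    (IsAlgClosed.algebraMap_bijective_of_isIntegral (k := K) (K := X ⧸ m))
  have h1 := h (e.symm.toAlgHom.comp (Ideal.Quotient.mkₐ K m))
  have h2 : e.symm ((Ideal.Quotient.mkₐ K m) x) = e.symm 0 := h1.trans (map_zero _).symm
  exact Ideal.Quotient.eq_zero_iff_mem.1 (e.symm.injective h2)

/-- A representation is detected by the points. -/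
theorem isRep_of_points {K : Type u} [Field K] [IsAlgClosed K] [Algebra R K] [Algebra.FiniteType R A]
    [IsReduced (U2 R A K)] {n : Type w} [Fintype n] [DecidableEq n] {M : Matrix n n (K ⊗[R] A)}
    (hmul : ∀ u v : Pts R A K, evM (u * v) M = evM u M * evM v M) (hone : evM (1 : Pts R A K) M = 1) : IsRep M := by
  haveI : Algebra.FiniteType R (A ⊗[R] A) := Algebra.FiniteType.trans (S := A) inferInstance inferInstance
  refine ⟨?_, hone⟩
  ext i j
  rw [← sub_eq_zero]
  refine eq_zero_of_forall_hom (K := K) fun g => ?_
  have h1 := congrFun (congrFun (hmul (push (g.restrictScalars R) uL) (push (g.restrictScalars R) uR)) i) j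
  rw [← map_mul, evM_push, evM_push, evM_push, ← Matrix.map_mul] at h1
  rw [map_sub, sub_eq_zero]
  exact h1

end Groth.Agent.RedOpen
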