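import Groth.Agent.RedOpen.Comp
import Mathlib.RingTheory.Flat.TorsionFree
import Mathlib.RingTheory.Localization.BaseChange
import Mathlib.RingTheory.QuasiFinite.Basic
import Mathlib.RingTheory.ZariskisMainTheorem
import Mathlib.RingTheory.Valuation.ValuationRing

/-!
# The criterion is stable under generization along a valuation ring
-/

set_option autoImplicit false
set_option linter.style.haveILetI false
set_option linter.unusedSectionVars false
set_option maxHeartbeats 800000
set_option synthInstance.maxHeartbeats 100000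

universe u v

open TensorProduct WithConv
open scoped Groth.Agent.Takeuchi

noncomputable section

namespace Groth.Agent.RedOpen

/-- A finite type algebra over a field with finitely many geometric points is finite. -/
theorem moduleFinite_of_finite_hom (k F Ω : Type u) [Field k] [CommRing F] [Algebra k F] [Algebra.FiniteType k F]
    [Field Ω] [IsAlgClosed Ω] [Algebra k Ω] [Algebra.IsAlgebraic k Ω] [Finite (F →ₐ[k] Ω)] : Module.Finite k F := by
  classical
  haveI : Fintype (F →ₐ[k] Ω) := Fintype.ofFinite _
  haveI := isJacobsonRing_of_finiteType (A := k) (B := F)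
  haveI : Algebra.IsIntegral k F := ⟨fun x => by
    let P : Polynomial k := ∏ g : F →ₐ[k] Ω, minpoly k (g x)
    have hP : P.Monic := Polynomial.monic_prod_of_monic _ _ fun g _ => minpoly.monic (Algebra.IsIntegral.isIntegral _)
    have hy : IsNilpotent (Polynomial.aeval x P) := by
      rw [← mem_nilradical, nilradical, Ideal.radical_eq_jacobson, Ideal.jacobson, Submodule.mem_sInf]
      rintro n ⟨-, hn⟩
      let := Ideal.Quotient.field n
      haveI : Module.Finite k (F ⧸ n) := finite_of_finite_type_of_isJacobsonRing k _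
      let g : F →ₐ[k] Ω := (IsAlgClosed.lift : (F ⧸ n) →ₐ[k] Ω).comp (Ideal.Quotient.mkₐ k n)
      have h2 : g (Polynomial.aeval x P) = 0 := by
        rw [← Polynomial.aeval_algHom_apply, map_prod]
        exact Finset.prod_eq_zero (Finset.mem_univ g) (minpoly.aeval k (g x))
      refine Ideal.Quotient.eq_zero_iff_mem.1 ((IsAlgClosed.lift : (F ⧸ n) →ₐ[k] Ω).injective (h2.trans (map_zero _).symm))
    obtain ⟨N, hN⟩ := hy
    exact ⟨P ^ N, hP.pow N, by
      show Polynomial.aeval x (P ^ N) = 0
      rw [map_pow, hN]⟩⟩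
  exact Algebra.IsIntegral.finite

variable {R A O K : Type u} [CommRing R] [CommRing A] [HopfAlgebra R A] [CommRing O] [IsDomain O] [Field K]
  [Algebra R O] [Algebra O K] [Algebra R K] [IsScalarTower R O K] [IsFractionRing O K] [IsAlgClosed K]
  [Algebra.FiniteType R A] [IsReduced (K ⊗[R] A)]
  {B : Type u} [CommRing B] [IsDomain B] [Algebra K B] [Algebra O B] [Algebra R B] [IsScalarTower O K B]
  [IsScalarTower R O B] [IsScalarTower R K B] [Algebra.FiniteType K B]
  (p : K ⊗[R] A →ₐ[K] B)

/-- The point of a quotient of the functions. -/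
def qPt : Pts R A B := push (p.restrictScalars R) (idPt R A K)

/-- The integral model of a quotient of the functions. -/
def model : O ⊗[R] A →ₐ[O] B := ev (qPt p)

theorem ev_model {T : Type u} [CommRing T] [Algebra R T] [Algebra O T] [IsScalarTower R O T]
    (φ : (model (O := O) p).range →ₐ[O] T) (f : O ⊗[R] A) :
    ev (B := O) (push (φ.restrictScalars R) (toConv (((model (O := O) p).rangeRestrict.restrictScalars R).comp
      Algebra.TensorProduct.includeRight))) f = φ ((model (O := O) p).rangeRestrict f) := by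
  rw [ev_push, ev_restrict]

theorem model_one_tmul (a : A) : model (O := O) p ((1 : O) ⊗ₜ[R] a) = p ((1 : K) ⊗ₜ[R] a) := by
  simp [model, qPt, idPt]

variable {Ω : Type u} [Field Ω] [Algebra O Ω] [Algebra R Ω] [IsScalarTower R O Ω]

variable (Ω) in
/-- The special points of the model. -/
def spec : Set (Pts R A Ω) := {u | RingHom.ker (model (O := O) p) ≤ RingHom.ker (ev (B := O) u)}

variable (hp : Function.Surjective p)
include hp

theorem exists_factor {u : Pts R A Ω} (hu : u ∈ spec (O := O) p Ω) :
    ∃ φ : (model (O := O) p).range →ₐ[O] Ω, push (φ.restrictScalars R)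
      (toConv (((model (O := O) p).rangeRestrict.restrictScalars R).comp Algebra.TensorProduct.includeRight)) = u := by
  have H : RingHom.ker (model (O := O) p).rangeRestrict ≤ RingHom.ker (ev (B := O) u) := fun x hx =>
    hu (RingHom.mem_ker.2 (congrArg Subtype.val (RingHom.mem_ker.1 hx)))
  refine ⟨(model (O := O) p).rangeRestrict.liftOfSurjective (model p).rangeRestrict_surjective (ev u) H, ?_⟩
  refine WithConv.ext (AlgHom.ext fun a => ?_)
  refine (AlgHom.congr_fun (AlgHom.liftOfSurjective_comp _ (model p).rangeRestrict_surjective (ev u) H)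
    ((1 : O) ⊗ₜ[R] a)).trans ?_
  simp

theorem mem_zeros_qPt (g : B →ₐ[K] K) : push (g.restrictScalars R) (qPt p) ∈ zeros (RingHom.ker p) := fun z hz => by
  have he : push (g.restrictScalars R) (qPt p) =
      toConv (((g.comp p).restrictScalars R).comp Algebra.TensorProduct.includeRight) :=
    WithConv.ext (AlgHom.ext fun a => rfl)
  rw [RingHom.mem_ker, he, ev_restrict]
  simp [RingHom.mem_ker.1 hz]

/-- A model function vanishing on the model vanishes on the zeros. -/
theorem ev_zero_of_model {f : O ⊗[R] A} (hf : model p f = 0) {w : Pts R A K} (hw : w ∈ zeros (RingHom.ker p)) :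
    ev (B := O) w f = 0 := by
  let g : B →ₐ[K] K := p.liftOfSurjective hp (ev w) hw
  have h1 : push (g.restrictScalars R) (qPt p) = w := WithConv.ext (AlgHom.ext fun a => by
    refine (AlgHom.congr_fun (AlgHom.liftOfSurjective_comp p hp (ev w) hw) ((1 : K) ⊗ₜ[R] a)).trans ?_
    simp)
  rw [← h1, show g.restrictScalars R = (g.restrictScalars O).restrictScalars R from rfl, ev_push,
    show ev (qPt p) f = 0 from hf, map_zero]

theorem one_mem_spec (h1 : (1 : Pts R A K) ∈ zeros (RingHom.ker p)) : (1 : Pts R A Ω) ∈ spec (O := O) p Ω := by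
  intro f hf
  have h2 := ev_zero_of_model p hp (RingHom.mem_ker.1 hf) h1
  rw [← map_one (push (IsScalarTower.toAlgHom R O K)), show IsScalarTower.toAlgHom R O K =
    (Algebra.ofId O K).restrictScalars R from AlgHom.ext fun x => rfl, ev_push] at h2
  have h3 : ev (B := O) (1 : Pts R A O) f = 0 :=
    (IsFractionRing.injective O K) (h2.trans (map_zero _).symm)
  rw [RingHom.mem_ker, ← map_one (push (IsScalarTower.toAlgHom R O Ω)), show IsScalarTower.toAlgHom R O Ω =
    (Algebra.ofId O Ω).restrictScalars R from AlgHom.ext fun x => rfl, ev_push, h3, map_zero]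

theorem flat_model [IsBezout O] : Module.Flat O (model (O := O) p).range := by
  haveI : Module.IsTorsionFree O K := inferInstance
  haveI : Module.IsTorsionFree O B := Module.IsTorsionFree.trans_faithfulSMul O K B
  haveI : Module.IsTorsionFree O (model (O := O) p).range :=
    Function.Injective.moduleIsTorsionFree (fun x => (x : B)) Subtype.val_injective fun _ _ => rfl
  rw [Module.Flat.flat_iff_torsion_eq_bot_of_isBezout, ← Submodule.isTorsionFree_iff_torsion_eq_bot]
  infer_instance

theorem mul_mem_spec [IsBezout O] (hmul : ∀ x ∈ zeros (RingHom.ker p), ∀ y ∈ zeros (RingHom.ker p),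
      x * y ∈ zeros (RingHom.ker p)) {u v : Pts R A Ω} (hu : u ∈ spec (O := O) p Ω) (hv : v ∈ spec (O := O) p Ω) :
    u * v ∈ spec (O := O) p Ω := by
  intro f hf
  haveI := flat_model (O := O) p hp
  haveI : Module.Flat O K := IsLocalization.flat K (nonZeroDivisors O)
  haveI : Module.Flat O B := Module.Flat.trans O K B
  haveI : IsDomain (B ⊗[K] B) := isDomain_tensor_ft
  haveI : Algebra.FiniteType K (B ⊗[K] B) := Algebra.FiniteType.trans (S := B) inferInstance inferInstance
  let C := (model (O := O) p).range
  let c : Pts R A C := toConv (((model (O := O) p).rangeRestrict.restrictScalars R).comp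
    Algebra.TensorProduct.includeRight)
  let i₁ : C →ₐ[O] C ⊗[O] C := Algebra.TensorProduct.includeLeft
  let i₂ : C →ₐ[O] C ⊗[O] C := Algebra.TensorProduct.includeRight
  let θ := push (i₁.restrictScalars R) c * push (i₂.restrictScalars R) c
  haveI : TensorProduct.CompatibleSMul O K B B := IsLocalization.tensorProduct_compatibleSMul (nonZeroDivisors O) K B B
  let j₁ : C ⊗[O] C →ₐ[O] B ⊗[O] B := Algebra.TensorProduct.map C.val C.val
  let j₂ : B ⊗[O] B ≃ₐ[O] B ⊗[K] B := Algebra.TensorProduct.equivOfCompatibleSMul K O O B B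
  let j : C ⊗[O] C →ₐ[O] B ⊗[K] B := j₂.toAlgHom.comp j₁
  have hj : Function.Injective j := by
    refine j₂.injective.comp ?_
    show Function.Injective (TensorProduct.map C.val.toLinearMap C.val.toLinearMap)
    rw [← LinearMap.lTensor_comp_rTensor]
    exact (Module.Flat.lTensor_preserves_injective_linearMap _ Subtype.val_injective).comp
      (Module.Flat.rTensor_preserves_injective_linearMap _ Subtype.val_injective)
  have h0 : ev (B := O) θ f = 0 := by
    refine hj ((eq_zero_of_forall_hom (K := K) fun g => ?_).trans (map_zero j).symm)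
    let gO : C ⊗[O] C →ₐ[O] K := (g.restrictScalars O).comp j
    show gO (ev θ f) = 0
    rw [← ev_push, map_mul]
    refine ev_zero_of_model p hp (RingHom.mem_ker.1 hf) (hmul _ ?_ _ ?_)
    · convert mem_zeros_qPt p hp (g.comp Algebra.TensorProduct.includeLeft) using 1
      refine WithConv.ext (AlgHom.ext fun a => ?_)
      simp [gO, j, j₁, i₁, c, qPt, idPt]
      show g (j₂ (_ ⊗ₜ[O] _)) = _
      rw [model_one_tmul]
      rfl
    · convert mem_zeros_qPt p hp (g.comp Algebra.TensorProduct.includeRight) using 1
      refine WithConv.ext (AlgHom.ext fun a => ?_)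
      simp [gO, j, j₁, i₂, c, qPt, idPt]
      show g (j₂ (_ ⊗ₜ[O] _)) = _
      rw [model_one_tmul]
      rfl
  obtain ⟨φ, hφ⟩ := exists_factor p hp hu
  obtain ⟨ψ, hψ⟩ := exists_factor p hp hv
  let χ : C ⊗[O] C →ₐ[O] Ω := Algebra.TensorProduct.lift φ ψ fun _ _ => Commute.all _ _
  have h1 := congrArg χ h0
  rw [map_zero, ← ev_push, map_mul] at h1
  rw [RingHom.mem_ker]
  convert h1 using 4
  · rw [← hφ]
    refine WithConv.ext (AlgHom.ext fun a => ?_)
    simp [χ, i₁, c]
  · rw [← hψ]
    refine WithConv.ext (AlgHom.ext fun a => ?_)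
    simp [χ, i₂, c]

theorem conj_mem_spec [Module.Flat R A] (hconj : ∀ g, ∀ x ∈ zeros (RingHom.ker p), g * x * g⁻¹ ∈ zeros (RingHom.ker p))
    (g : Pts R A Ω) {u : Pts R A Ω} (hu : u ∈ spec (O := O) p Ω) : g * u * g⁻¹ ∈ spec (O := O) p Ω := by
  intro f hf
  let C := (model (O := O) p).range
  let c : Pts R A C := toConv (((model (O := O) p).rangeRestrict.restrictScalars R).comp
    Algebra.TensorProduct.includeRight)
  let il : C →ₐ[O] C ⊗[R] A := Algebra.TensorProduct.includeLeft
  let x : Pts R A (C ⊗[R] A) := toConv Algebra.TensorProduct.includeRight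
  let θ := x * push (il.restrictScalars R) c * x⁻¹
  let j : C ⊗[R] A →ₐ[O] B ⊗[R] A := Algebra.TensorProduct.map C.val (AlgHom.id R A)
  have hj : Function.Injective j := by
    show Function.Injective ((C.val.restrictScalars R).toLinearMap.rTensor A)
    exact Module.Flat.rTensor_preserves_injective_linearMap _ Subtype.val_injective
  let e : B ⊗[K] (K ⊗[R] A) ≃ₐ[K] B ⊗[R] A := Algebra.TensorProduct.cancelBaseChange R K K B A
  haveI : IsReduced B := inferInstance
  haveI : IsReduced (B ⊗[K] (K ⊗[R] A)) := FinHopf.isReduced_tensor_of_algClosed K B (K ⊗[R] A)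
  haveI : IsReduced (B ⊗[R] A) := isReduced_of_injective e.symm.toRingHom e.symm.injective
  haveI : Algebra.FiniteType B (B ⊗[R] A) := inferInstance
  haveI : Algebra.FiniteType K (B ⊗[R] A) := Algebra.FiniteType.trans (S := B) inferInstance inferInstance
  have h0 : ev (B := O) θ f = 0 := by
    refine hj ((eq_zero_of_forall_hom (K := K) fun G => ?_).trans (map_zero j).symm)
    let gO : C ⊗[R] A →ₐ[O] K := (G.restrictScalars O).comp j
    show gO (ev θ f) = 0
    rw [← ev_push, map_mul, map_mul, map_inv]
    refine ev_zero_of_model p hp (RingHom.mem_ker.1 hf) (hconj _ _ ?_)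
    convert mem_zeros_qPt p hp (G.comp Algebra.TensorProduct.includeLeft) using 1
    refine WithConv.ext (AlgHom.ext fun a => ?_)
    simp [gO, j, il, c, qPt, idPt, model_one_tmul (O := O) p]
  obtain ⟨φ, hφ⟩ := exists_factor p hp hu
  let χ : C ⊗[R] A →ₐ[O] Ω := Algebra.TensorProduct.lift φ g.ofConv fun _ _ => Commute.all _ _
  have hx : push (χ.restrictScalars R) x = g := WithConv.ext (AlgHom.ext fun a => by simp [χ, x])
  have h1 := congrArg χ h0
  rw [map_zero, ← ev_push, map_mul, map_mul, map_inv, hx] at h1
  rw [RingHom.mem_ker]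
  convert h1 using 5
  rw [← hφ]
  refine WithConv.ext (AlgHom.ext fun a => ?_)
  simp [χ, il, c]

theorem isUni_spec (hu : IsUni (zeros (RingHom.ker p))) : IsUni (spec (O := O) p Ω) := by
  intro a
  obtain ⟨D, hD⟩ := hu a
  let C := (model (O := O) p).range
  let c : Pts R A C := toConv (((model (O := O) p).rangeRestrict.restrictScalars R).comp
    Algebra.TensorProduct.includeRight)
  refine ⟨D, fun u hu' => ?_⟩
  funext m
  have h0 : (fwdDiff 1)^[D] (fun i => (c ^ i).ofConv a) m = 0 := by
    refine Subtype.ext (eq_zero_of_forall_hom (K := K) fun g => ?_)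
    let gC : C →ₐ[R] K := (g.restrictScalars R).comp (C.val.restrictScalars R)
    show gC.toAddMonoidHom ((fwdDiff 1)^[D] (fun i => (c ^ i).ofConv a) m) = 0
    rw [iter_map gC.toAddMonoidHom]
    have he : push gC c = push (g.restrictScalars R) (qPt p) :=
      WithConv.ext (AlgHom.ext fun a => by simp [gC, c, C, qPt, idPt, model_one_tmul (O := O) p])
    have h1 := congrFun (hD _ (mem_zeros_qPt p hp g)) m
    simp only [← he, ← map_pow] at h1
    exact h1
  obtain ⟨φ, hφ⟩ := exists_factor p hp hu'
  have h1 := congrArg (φ.restrictScalars R).toAddMonoidHom h0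
  rw [map_zero, iter_map] at h1
  simp only [← hφ, ← map_pow]
  exact h1

theorem exists_smul_mem (f : K ⊗[R] A) : ∃ (c : O) (f' : O ⊗[R] A), c ≠ 0 ∧
    Algebra.TensorProduct.map (IsScalarTower.toAlgHom R O K) (AlgHom.id R A) f' = algebraMap O K c • f := by
  induction f using TensorProduct.induction_on with
  | zero => exact ⟨1, 0, one_ne_zero, by simp⟩
  | tmul k a =>
    obtain ⟨⟨x, c⟩, h⟩ := IsLocalization.surj (nonZeroDivisors O) k
    refine ⟨c, x ⊗ₜ[R] a, nonZeroDivisors.ne_zero c.2, ?_⟩
    rw [TensorProduct.smul_tmul', smul_eq_mul, mul_comm, h]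
    simp
  | add f g hf hg =>
    obtain ⟨c, f', hc, hf'⟩ := hf
    obtain ⟨d, g', hd, hg'⟩ := hg
    refine ⟨c * d, d • f' + c • g', mul_ne_zero hc hd, ?_⟩
    let M := Algebra.TensorProduct.map (IsScalarTower.toAlgHom R O K) (AlgHom.id R A)
    have hs : ∀ (c : O) (y : O ⊗[R] A), M (c • y) = algebraMap O K c • M y := fun c y => by
      rw [Algebra.smul_def, map_mul, Algebra.smul_def]
      simp [M, Algebra.TensorProduct.algebraMap_apply]
    show M _ = _
    rw [map_add, hs, hs, show M f' = _ from hf', show M g' = _ from hg', smul_smul, smul_smul, map_mul, smul_add,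
      mul_comm (algebraMap O K c)]

theorem not_finite_spec [ValuationRing O] (h1 : (1 : Pts R A K) ∈ zeros (RingHom.ker p))
    (hinf : ¬ (zeros (RingHom.ker p)).Finite)
    (Ω : Type u) [Field Ω] [IsAlgClosed Ω] [Algebra (IsLocalRing.maximalIdeal O).ResidueField Ω]
    [Algebra.IsAlgebraic (IsLocalRing.maximalIdeal O).ResidueField Ω] [Algebra O Ω]
    [IsScalarTower O (IsLocalRing.maximalIdeal O).ResidueField Ω] [Algebra R Ω] [IsScalarTower R O Ω] :
    ¬ (spec (O := O) p Ω).Finite := by
  classical
  intro hfin
  let m := IsLocalRing.maximalIdeal O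
  let k := m.ResidueField
  let C := (model (O := O) p).range
  let F := m.Fiber C
  haveI : Algebra.FiniteType O C := Algebra.FiniteType.of_surjective _ (model (O := O) p).rangeRestrict_surjective
  haveI : Algebra.FiniteType k F := inferInstance
  let i : C →ₐ[O] F := Algebra.TensorProduct.includeRight
  let toPt : (F →ₐ[k] Ω) → Pts R A Ω := fun g =>
    push (((g.restrictScalars O).comp i).restrictScalars R)
      (toConv (((model (O := O) p).rangeRestrict.restrictScalars R).comp Algebra.TensorProduct.includeRight))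
  have htoPt : ∀ g, toPt g ∈ spec (O := O) p Ω := fun g f hf => by
    rw [RingHom.mem_ker, show toPt g = _ from rfl, ev_model p]
    rw [show (model (O := O) p).rangeRestrict f = 0 from Subtype.ext (RingHom.mem_ker.1 hf), map_zero]
  have hinj : Function.Injective toPt := fun g g' h => by
    refine Algebra.TensorProduct.ext (Subsingleton.elim _ _) (AlgHom.ext fun x => ?_)
    obtain ⟨f, rfl⟩ := (model (O := O) p).rangeRestrict_surjective x
    have h2 := congrArg (fun u => ev (B := O) u f) h
    simp only [toPt, ev_model p] at h2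
    exact h2
  haveI : Finite (F →ₐ[k] Ω) := by
    haveI := hfin.to_subtype
    exact Finite.of_injective (fun g => (⟨toPt g, htoPt g⟩ : spec (O := O) p Ω)) fun g g' h => hinj (congrArg Subtype.val h)
  haveI : Module.Finite k F := moduleFinite_of_finite_hom k F Ω
  -- the unit point
  obtain ⟨φ, hφ⟩ := exists_factor (Ω := Ω) p hp (one_mem_spec (O := O) (Ω := Ω) p hp h1)
  let ε : F →ₐ[k] Ω := Algebra.TensorProduct.lift (Algebra.ofId k Ω) φ fun _ _ => Commute.all _ _
  let Qf : Ideal F := RingHom.ker ε
  haveI : Qf.IsPrime := RingHom.ker_isPrime _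
  haveI : Algebra.QuasiFiniteAt k Qf := inferInstance
  let q : Ideal C := Qf.comap i.toRingHom
  haveI : q.LiesOver m := ⟨by
    ext x
    show x ∈ m ↔ ε (i (algebraMap O C x)) = 0
    rw [AlgHom.commutes, IsScalarTower.algebraMap_apply O k F, AlgHom.commutes,
      map_eq_zero_iff _ (algebraMap k Ω).injective, Ideal.algebraMap_residueField_eq_zero]⟩
  haveI : Algebra.QuasiFiniteAt O q := Algebra.QuasiFiniteAt.of_quasiFiniteAt_residueField m q Qf rfl
  -- the augmentation
  have hε : ∀ x : O ⊗[R] A, model p x = 0 → ev (B := O) (1 : Pts R A K) x = 0 := fun x hx => ev_zero_of_model p hp hx h1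
  let δ : C →ₐ[O] K := (model (O := O) p).rangeRestrict.liftOfSurjective (model p).rangeRestrict_surjective
    (ev (1 : Pts R A K)) (fun x hx => RingHom.mem_ker.2 (hε x (congrArg Subtype.val (RingHom.mem_ker.1 hx))))
  haveI : (RingHom.ker δ).IsPrime := RingHom.ker_isPrime _
  have hδ : ∀ x, δ ((model (O := O) p).rangeRestrict x) = ev (B := O) (1 : Pts R A K) x :=
    fun x => AlgHom.congr_fun (AlgHom.liftOfSurjective_comp (model (O := O) p).rangeRestrict (model p).rangeRestrict_surjective (ev (1 : Pts R A K))
      (fun x hx => RingHom.mem_ker.2 (hε x (congrArg Subtype.val (RingHom.mem_ker.1 hx))))) x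
  have hone : ∀ x : O ⊗[R] A, ev (B := O) (1 : Pts R A K) x = algebraMap O K (ev (B := O) (1 : Pts R A O) x) := fun x => by
    rw [← map_one (push (IsScalarTower.toAlgHom R O K)), show IsScalarTower.toAlgHom R O K =
      (Algebra.ofId O K).restrictScalars R from AlgHom.ext fun x => rfl, ev_push]
    rfl
  have hδq : RingHom.ker δ ≤ q := fun c hc => by
    obtain ⟨x, rfl⟩ := (model (O := O) p).rangeRestrict_surjective c
    rw [RingHom.mem_ker, hδ, hone, map_eq_zero_iff _ (IsFractionRing.injective O K)] at hc
    show ε (i _) = 0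
    rw [show ε (i ((model (O := O) p).rangeRestrict x)) = φ ((model (O := O) p).rangeRestrict x) from
      (Algebra.TensorProduct.lift_tmul _ _ _ _ _).trans (by simp),
      ← ev_model p, hφ, ← map_one (push (IsScalarTower.toAlgHom R O Ω)), show IsScalarTower.toAlgHom R O Ω =
      (Algebra.ofId O Ω).restrictScalars R from AlgHom.ext fun x => rfl, ev_push, hc, map_zero]
  haveI : Algebra.QuasiFiniteAt O (RingHom.ker δ) := Algebra.QuasiFiniteAt.of_le hδq
  have hbot : (⊥ : Ideal C).under O = (RingHom.ker δ).under O := by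
    ext x
    simp only [Ideal.under, Ideal.mem_comap, Ideal.mem_bot, RingHom.mem_ker, AlgHom.commutes,
      map_eq_zero_iff _ (IsFractionRing.injective O K)]
    refine ⟨fun h => ?_, fun h => by rw [h, map_zero]⟩
    have h' : algebraMap K B (algebraMap O K x) = 0 := by
      rw [← IsScalarTower.algebraMap_apply]
      exact congrArg Subtype.val h
    exact (IsFractionRing.injective O K) (((algebraMap K B).injective (h'.trans (map_zero _).symm)).trans (map_zero _).symm)
  have heq : (⊥ : Ideal C) = RingHom.ker δ := Algebra.QuasiFiniteAt.eq_of_le_of_under_eq bot_le hbot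
  have hker : RingHom.ker (ev (B := K) (1 : Pts R A K)) ≤ RingHom.ker p := by
    intro f hf
    obtain ⟨c, f', hc, hf'⟩ := exists_smul_mem (O := O) p hp f
    have hnat : ∀ (T : Type u) [CommRing T] [Algebra R T] [Algebra O T] [Algebra K T] [IsScalarTower R O T]
        [IsScalarTower R K T] [IsScalarTower O K T] (w : Pts R A T),
        ev (B := O) w f' = algebraMap O K c • ev (B := K) w f := by
      intro T _ _ _ _ _ _ _ w
      rw [← map_smul, ← hf']
      refine (ev_nat (IsScalarTower.toAlgHom R O K) (AlgHom.id R T)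
        (fun b => by simp [← IsScalarTower.algebraMap_apply]) w f').trans ?_
      congr 1
    have hm : (model (O := O) p).rangeRestrict f' ∈ RingHom.ker δ := by
      rw [RingHom.mem_ker, hδ, hnat, RingHom.mem_ker.1 hf, smul_zero]
    rw [← heq, Ideal.mem_bot] at hm
    have h2 : ev (B := O) (qPt p) f' = 0 := congrArg Subtype.val hm
    rw [hnat, show ev (B := K) (qPt p) f = p f by
      rw [qPt, ev_push]; exact congrArg p (AlgHom.congr_fun (ev_restrict (AlgHom.id K _)) f),
      smul_eq_zero] at h2
    exact RingHom.mem_ker.2 (h2.resolve_left fun h => hc ((IsFractionRing.injective O K) (h.trans (map_zero _).symm)))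
  refine hinf ((Set.finite_singleton (1 : Pts R A K)).subset fun w hw => ?_)
  refine WithConv.ext (AlgHom.ext fun a => ?_)
  have h2 : (1 : K) ⊗ₜ[R] a - algebraMap K _ (ev (1 : Pts R A K) ((1 : K) ⊗ₜ[R] a)) ∈
      RingHom.ker (ev (B := K) (1 : Pts R A K)) := by
    rw [RingHom.mem_ker, map_sub, AlgHom.commutes]
    exact sub_self _
  have h3 := RingHom.mem_ker.1 (hw (hker h2))
  rw [map_sub, AlgHom.commutes, sub_eq_zero] at h3
  simpa using h3

end Groth.Agent.RedOpen
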