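import Groth.Agent.RedOpen.Factors
import Mathlib.RingTheory.IntegralClosure.IsIntegralClosure.Basic
import Mathlib.LinearAlgebra.Matrix.Determinant.Basic

/-!
# Spreading out the irreducible-representation criterion
-/

set_option autoImplicit false
set_option linter.style.haveILetI false
set_option linter.unusedSectionVars false

universe u v

open TensorProduct WithConv
open scoped Groth.Agent.Takeuchi

noncomputable section

namespace Groth.Agent.RedOpen

variable {R A : Type u} [CommRing R] [CommRing A] [HopfAlgebra R A]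

section Ker

variable {B : Type u} [CommRing B] [Algebra R B] {m : ℕ} {d : Fin m → ℕ}

/-- The equations of the common kernel. -/
def kerI (M : ∀ l, Matrix (Fin (d l)) (Fin (d l)) (B ⊗[R] A)) : Ideal (B ⊗[R] A) :=
  Ideal.span (Set.range fun p : Σ l, Fin (d l) × Fin (d l) =>
    M p.1 p.2.1 p.2.2 - (1 : Matrix (Fin (d p.1)) (Fin (d p.1)) (B ⊗[R] A)) p.2.1 p.2.2)

theorem kerI_le_ker {T : Type u} [CommRing T] [Algebra R T] [Algebra B T] [IsScalarTower R B T]
    (M : ∀ l, Matrix (Fin (d l)) (Fin (d l)) (B ⊗[R] A)) (u : Pts R A T) :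
    kerI M ≤ RingHom.ker (ev (B := B) u) ↔ ∀ l, evM u (M l) = 1 := by
  refine Ideal.span_le.trans ⟨fun h l => ?_, ?_⟩
  · ext i j
    have h1 := h ⟨⟨l, i, j⟩, rfl⟩
    rw [SetLike.mem_coe, RingHom.mem_ker, map_sub, sub_eq_zero] at h1
    refine h1.trans ?_
    rw [Matrix.one_apply, Matrix.one_apply]
    split <;> simp
  · rintro h _ ⟨⟨l, i, j⟩, rfl⟩
    rw [SetLike.mem_coe, RingHom.mem_ker, map_sub, sub_eq_zero]
    refine (congrFun (congrFun (h l) i) j).trans ?_
    rw [Matrix.one_apply, Matrix.one_apply]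
    split <;> simp

variable {B' : Type u} [CommRing B'] [Algebra R B'] (φ : B →ₐ[R] B')

theorem kerI_map (M : ∀ l, Matrix (Fin (d l)) (Fin (d l)) (B ⊗[R] A)) :
    kerI (fun l => mapM φ (M l)) =
      Ideal.map (Algebra.TensorProduct.map φ (AlgHom.id R A)).toRingHom (kerI M) := by
  rw [kerI, kerI, Ideal.map_span, ← Set.range_comp]
  congr 1
  refine congrArg Set.range (funext fun p => ?_)
  simp only [Function.comp_apply, AlgHom.toRingHom_eq_coe, RingHom.coe_coe, map_sub, mapM, Matrix.map_apply,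
    Matrix.one_apply]
  split <;> simp

end Ker

section Mat

variable {B T : Type u} [CommRing B] [Algebra R B] [CommRing T] [Algebra R T] [Algebra B T] [IsScalarTower R B T]

/-- The values at a family of points, as a square matrix. -/
def ptMat {d : ℕ} (g : Fin d × Fin d → Pts R A T) (M : Matrix (Fin d) (Fin d) (B ⊗[R] A)) :
    Matrix (Fin d × Fin d) (Fin d × Fin d) T := fun p q => evM (g p) M q.1 q.2

end Mat

theorem ptMat_map {B B' : Type u} [CommRing B] [Algebra R B] [CommRing B'] [Algebra R B'] (φ : B →ₐ[R] B') {d : ℕ}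
    (g : Fin d × Fin d → Pts R A B) (M : Matrix (Fin d) (Fin d) (B ⊗[R] A)) :
    (ptMat g M).map φ = ptMat (fun p => push φ (g p)) (mapM φ M) := by
  ext p q
  simp [ptMat, evM_nat φ φ (fun b => by simp)]

theorem mk_tmul {B : Type u} [CommRing B] [Algebra R B] (I : Ideal (B ⊗[R] A)) (b : B) (a : A) :
    Ideal.Quotient.mk I (b ⊗ₜ[R] a) = b • Ideal.Quotient.mk I ((1 : B) ⊗ₜ[R] a) := by
  rw [← Ideal.Quotient.mkₐ_eq_mk B, ← map_smul, TensorProduct.smul_tmul', smul_eq_mul, mul_one]

/-- A family of representations with spanning points and integral common kernel. -/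
def HasWitness (R A : Type u) [CommRing R] [CommRing A] [HopfAlgebra R A] (B : Type u) [CommRing B] [Algebra R B] :
    Prop :=
  ∃ (m : ℕ) (d : Fin m → ℕ) (M : ∀ l, Matrix (Fin (d l)) (Fin (d l)) (B ⊗[R] A)),
    (∀ l, IsRep (M l)) ∧
    (∀ l, ∃ g : Fin (d l) × Fin (d l) → Pts R A B, IsUnit (Matrix.det (ptMat g (M l)))) ∧
    Algebra.IsIntegral B ((B ⊗[R] A) ⧸ kerI M)

theorem HasWitness.map {B B' : Type u} [CommRing B] [Algebra R B] [CommRing B'] [Algebra R B'] (φ : B →ₐ[R] B')
    (h : HasWitness R A B) : HasWitness R A B' := by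
  obtain ⟨m, d, M, hM, hg, hint⟩ := h
  refine ⟨m, d, fun l => mapM φ (M l), fun l => (hM l).mapM φ, fun l => ?_, ?_⟩
  · obtain ⟨g, hg⟩ := hg l
    refine ⟨fun p => push φ (g p), ?_⟩
    rw [← ptMat_map]
    have h := hg.map φ
    rw [AlgHom.map_det, AlgHom.mapMatrix_apply] at h
    exact h
  · let F := Algebra.TensorProduct.map φ (AlgHom.id R A)
    let I' := kerI fun l => mapM φ (M l)
    let Φ : (B ⊗[R] A) ⧸ kerI M →+* (B' ⊗[R] A) ⧸ I' :=
      Ideal.quotientMap I' F.toRingHom (Ideal.map_le_iff_le_comap.1 (le_of_eq (kerI_map φ M).symm))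
    have key : ∀ a : A, IsIntegral B' (Ideal.Quotient.mk I' ((1 : B') ⊗ₜ[R] a)) := fun a => by
      obtain ⟨P, hP, hP0⟩ := hint.isIntegral (Ideal.Quotient.mk (kerI M) ((1 : B) ⊗ₜ[R] a))
      refine ⟨P.map φ.toRingHom, hP.map _, ?_⟩
      have h1 := congrArg Φ hP0
      rw [map_zero, Polynomial.hom_eval₂] at h1
      rw [Polynomial.eval₂_map]
      have e1 : Φ (Ideal.Quotient.mk (kerI M) ((1 : B) ⊗ₜ[R] a)) = Ideal.Quotient.mk I' ((1 : B') ⊗ₜ[R] a) := by
        show Ideal.Quotient.mk I' (F ((1 : B) ⊗ₜ[R] a)) = _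
        simp [F]
      have e2 : Φ.comp (algebraMap B ((B ⊗[R] A) ⧸ kerI M)) =
          (algebraMap B' ((B' ⊗[R] A) ⧸ I')).comp φ.toRingHom := by
        refine RingHom.ext fun b => ?_
        show Ideal.Quotient.mk I' (F (b ⊗ₜ[R] (1 : A))) = Ideal.Quotient.mk I' (φ b ⊗ₜ[R] (1 : A))
        simp [F]
      rw [e1, e2] at h1
      exact h1
    refine ⟨fun x => ?_⟩
    obtain ⟨x, rfl⟩ := Ideal.Quotient.mk_surjective x
    induction x using TensorProduct.induction_on with
    | zero => rw [map_zero]; exact isIntegral_zero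
    | add x y hx hy => rw [map_add]; exact hx.add hy
    | tmul b a =>
      rw [mk_tmul]
      exact (key a).smul b

variable {K : Type u} [Field K] [Algebra R K] [Algebra.FiniteType R A]

/-- A witness over an algebraically closed field gives the criterion. -/
theorem HasWitness.good (h : HasWitness R A K) : Good R A K := by
  classical
  obtain ⟨m, d, M, hM, hg, hint⟩ := h
  refine ⟨m, d, M, hM, fun l => ?_, ?_⟩
  · obtain ⟨g, hg⟩ := hg l
    have h1 := Matrix.linearIndependent_rows_iff_isUnit.2 ((Matrix.isUnit_iff_isUnit_det _).2 hg)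
    let v : Fin (d l) × Fin (d l) → Matrix (Fin (d l)) (Fin (d l)) K := fun p => evM (g p) (M l)
    have h2 : LinearIndependent K v := by
      let U : Matrix (Fin (d l)) (Fin (d l)) K ≃ₗ[K] (Fin (d l) × Fin (d l) → K) :=
        (LinearEquiv.curry K K (Fin (d l)) (Fin (d l))).symm
      refine LinearIndependent.of_comp U.toLinearMap ?_
      exact h1
    refine eq_top_iff.2 ((h2.span_eq_top_of_card_eq_finrank' ?_).ge.trans (Submodule.span_mono ?_))
    · simp [Module.finrank_matrix]
    · rintro _ ⟨p, rfl⟩; exact ⟨g p, rfl⟩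
  · obtain ⟨s, hs⟩ := (Algebra.FiniteType.out : (⊤ : Subalgebra R A).FG)
    choose P hP hP0 using fun a : s => hint.isIntegral (Ideal.Quotient.mk (kerI M) ((1 : K) ⊗ₜ[R] (a : A)))
    let f : Pts R A K → (s → K) := fun u a => u.ofConv a
    refine Set.Finite.of_finite_image (f := f) ?_ ?_
    · refine (Set.Finite.pi fun a : s => (Polynomial.finite_setOfPred_isRoot (hP a).ne_zero)).subset ?_
      rintro _ ⟨u, hu, rfl⟩ a -
      have hle : kerI M ≤ RingHom.ker (ev (B := K) u) := (kerI_le_ker M u).2 hu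
      let π : (K ⊗[R] A) ⧸ kerI M →ₐ[K] K := Ideal.Quotient.liftₐ _ (ev u) fun x hx => hle hx
      have h1 := congrArg π (hP0 a)
      rw [map_zero, show Polynomial.eval₂ (algebraMap K ((K ⊗[R] A) ⧸ kerI M)) _ (P a) = Polynomial.aeval _ (P a) from rfl,
        ← Polynomial.aeval_algHom_apply, Polynomial.coe_aeval_eq_eval,
        show π (Ideal.Quotient.mk (kerI M) ((1 : K) ⊗ₜ[R] (a : A))) = ev u ((1 : K) ⊗ₜ[R] (a : A)) from rfl,
        ev_tmul, map_one, one_mul] at h1
      exact h1
    · intro u _ v _ huv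
      refine WithConv.ext (AlgHom.ext_of_adjoin_eq_top hs fun a ha => ?_)
      exact congrFun huv ⟨a, ha⟩

variable [IsAlgClosed K]

theorem isIntegral_of_finite (I : Ideal (K ⊗[R] A))
    (h : {u : Pts R A K | I ≤ RingHom.ker (ev (B := K) u)}.Finite) : Algebra.IsIntegral K ((K ⊗[R] A) ⧸ I) := by
  classical
  haveI := isJacobsonRing_of_finiteType (A := K) (B := (K ⊗[R] A) ⧸ I)
  refine ⟨fun x => ?_⟩
  obtain ⟨x, rfl⟩ := Ideal.Quotient.mk_surjective x
  let P : Polynomial K := ∏ u ∈ h.toFinset, (Polynomial.X - Polynomial.C (ev u x))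
  have hP : P.Monic := Polynomial.monic_prod_of_monic _ _ fun u _ => Polynomial.monic_X_sub_C _
  let y := Polynomial.aeval (Ideal.Quotient.mk I x) P
  have hy : IsNilpotent y := by
    rw [← mem_nilradical, nilradical, Ideal.radical_eq_jacobson, Ideal.jacobson, Submodule.mem_sInf]
    rintro n ⟨-, hn⟩
    let := Ideal.Quotient.field n
    have : Module.Finite K (((K ⊗[R] A) ⧸ I) ⧸ n) := finite_of_finite_type_of_isJacobsonRing K _
    let e : K ≃ₐ[K] ((K ⊗[R] A) ⧸ I) ⧸ n := AlgEquiv.ofBijective (Algebra.ofId K _)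
      (IsAlgClosed.algebraMap_bijective_of_isIntegral (k := K))
    let g : (K ⊗[R] A) ⧸ I →ₐ[K] K := e.symm.toAlgHom.comp (Ideal.Quotient.mkₐ K n)
    let g' : K ⊗[R] A →ₐ[K] K := g.comp (Ideal.Quotient.mkₐ K I)
    let u : Pts R A K := toConv ((g'.restrictScalars R).comp Algebra.TensorProduct.includeRight)
    have hu : ev u = g' := ev_restrict g'
    have hmem : u ∈ h.toFinset := by
      rw [Set.Finite.mem_toFinset]
      intro z hz
      rw [RingHom.mem_ker, hu]
      show g (Ideal.Quotient.mk I z) = 0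
      rw [Ideal.Quotient.eq_zero_iff_mem.2 hz, map_zero]
    have h1 : g y = 0 := by
      rw [← Polynomial.aeval_algHom_apply, map_prod]
      refine Finset.prod_eq_zero hmem ?_
      simp [hu, g', sub_eq_zero]
    have h2 : e.symm (Ideal.Quotient.mk n y) = e.symm 0 := h1.trans (map_zero _).symm
    exact Ideal.Quotient.eq_zero_iff_mem.1 (e.symm.injective h2)
  obtain ⟨N, hN⟩ := hy
  refine ⟨P ^ N, hP.pow N, ?_⟩
  show Polynomial.aeval _ (P ^ N) = 0
  rw [map_pow]
  exact hN

/-- The coefficient map of a subalgebra. -/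
abbrev inclK (B : Subalgebra R K) : B ⊗[R] A →ₐ[R] K ⊗[R] A := Algebra.TensorProduct.map B.val (AlgHom.id R A)

theorem inclK_mono {B B' : Subalgebra R K} (hle : B ≤ B') {x : K ⊗[R] A} (h : x ∈ (inclK B).range) :
    x ∈ (inclK B').range := by
  obtain ⟨y, rfl⟩ := h
  refine ⟨Algebra.TensorProduct.map (Subalgebra.inclusion hle) (AlgHom.id R A) y, ?_⟩
  show ((inclK B').comp (Algebra.TensorProduct.map (Subalgebra.inclusion hle) (AlgHom.id R A))) y = inclK B y
  refine DFunLike.congr_fun (Algebra.TensorProduct.ext (AlgHom.ext fun b => ?_) (AlgHom.ext fun a => ?_)) y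
  · simp
  · simp

theorem exists_fg_range (x : K ⊗[R] A) : ∃ B : Subalgebra R K, B.FG ∧ x ∈ (inclK B).range := by
  classical
  induction x using TensorProduct.induction_on with
  | zero => exact ⟨⊥, Subalgebra.fg_bot, zero_mem _⟩
  | add x y hx hy =>
    obtain ⟨B, hB, hx⟩ := hx
    obtain ⟨C, hC, hy⟩ := hy
    exact ⟨B ⊔ C, hB.sup hC, add_mem (inclK_mono le_sup_left hx) (inclK_mono le_sup_right hy)⟩
  | tmul c a =>
    refine ⟨Algebra.adjoin R {c}, ⟨{c}, by simp⟩, ⟨(⟨c, Algebra.subset_adjoin rfl⟩ : Algebra.adjoin R {c}) ⊗ₜ[R] a, ?_⟩⟩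
    simp

theorem exists_fg_range_finset {J : Type*} (s : Finset J) (x : J → K ⊗[R] A) :
    ∃ B : Subalgebra R K, B.FG ∧ ∀ j ∈ s, x j ∈ (inclK B).range := by
  classical
  induction s using Finset.induction_on with
  | empty => exact ⟨⊥, Subalgebra.fg_bot, by simp⟩
  | insert j s hj ih =>
    obtain ⟨B, hB, h⟩ := ih
    obtain ⟨C, hC, hC'⟩ := exists_fg_range (x j)
    refine ⟨B ⊔ C, hB.sup hC, fun i hi => ?_⟩
    rcases Finset.mem_insert.1 hi with rfl | hi
    · exact inclK_mono le_sup_right hC'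
    · exact inclK_mono le_sup_left (h i hi)

theorem exists_ptMat_ne_zero {d : ℕ} {M : Matrix (Fin d) (Fin d) (K ⊗[R] A)} (hfull : IsFull M) :
    ∃ g : Fin d × Fin d → Pts R A K, Matrix.det (ptMat g M) ≠ 0 := by
  classical
  obtain ⟨b, hb, hsp, hli⟩ := exists_linearIndependent K (Set.range fun u : Pts R A K => evM u M)
  rw [show Submodule.span K (Set.range fun u : Pts R A K => evM u M) = ⊤ from hfull] at hsp
  let bb : Module.Basis b K (Matrix (Fin d) (Fin d) K) :=
    Module.Basis.mk hli (by rw [Subtype.range_coe]; exact hsp.ge)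
  let σ := bb.indexEquiv (Matrix.stdBasis K (Fin d) (Fin d))
  choose g hg using fun p => hb (σ.symm p).2
  refine ⟨g, ((Matrix.isUnit_iff_isUnit_det _).1 (Matrix.linearIndependent_rows_iff_isUnit.1 ?_)).ne_zero⟩
  let U : Matrix (Fin d) (Fin d) K ≃ₗ[K] (Fin d × Fin d → K) := (LinearEquiv.curry K K (Fin d) (Fin d)).symm
  have h1 := (hli.comp σ.symm σ.symm.injective).map' U.toLinearMap U.ker
  have h2 : (ptMat g M).row = U.toLinearMap ∘ ((fun x : b => (x : Matrix (Fin d) (Fin d) K)) ∘ σ.symm) := by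
    funext p q
    show evM (g p) M q.1 q.2 = _
    rw [show evM (g p) M = _ from hg p]
    rfl
  rw [h2]
  exact h1

/-- **The criterion at a point spreads to a finitely generated algebra.** -/
theorem Good.exists_witness [Module.Flat R A] (h : Good R A K) :
    ∃ B : Subalgebra R K, B.FG ∧ HasWitness R A B := by
  classical
  obtain ⟨m, d, M, hM, hfull, hfin⟩ := h
  obtain ⟨s, hs⟩ := (Algebra.FiniteType.out : (⊤ : Subalgebra R A).FG)
  choose g hg using fun l => exists_ptMat_ne_zero (hfull l)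
  -- integral relations
  have hint := isIntegral_of_finite (kerI M) (by simpa only [kerI_le_ker] using hfin)
  choose P hP hP0 using fun a : s => hint.isIntegral (Ideal.Quotient.mk (kerI M) ((1 : K) ⊗ₜ[R] (a : A)))
  have hmem : ∀ a : s, ∃ c : (Σ l, Fin (d l) × Fin (d l)) → K ⊗[R] A,
      ∑ p, c p * (M p.1 p.2.1 p.2.2 - (1 : Matrix (Fin (d p.1)) (Fin (d p.1)) (K ⊗[R] A)) p.2.1 p.2.2) =
        Polynomial.aeval ((1 : K) ⊗ₜ[R] (a : A)) (P a) := by
    intro a
    rw [← Ideal.mem_span_range_iff_exists_fun]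
    refine Ideal.Quotient.eq_zero_iff_mem.1 ?_
    rw [← Ideal.Quotient.mkₐ_eq_mk K, ← Polynomial.aeval_algHom_apply]
    exact hP0 a
  choose c hc using hmem
  -- the algebra of coefficients
  obtain ⟨B₀, hB₀, hB₀M⟩ := exists_fg_range_finset Finset.univ
    fun p : Σ l, Fin (d l) × Fin (d l) => M p.1 p.2.1 p.2.2
  obtain ⟨B₁, hB₁, hB₁c⟩ := exists_fg_range_finset Finset.univ
    fun p : s × (Σ l, Fin (d l) × Fin (d l)) => c p.1 p.2
  let G : Finset K :=
    (Finset.univ.image fun p : (Σ l, Fin (d l) × Fin (d l)) × s => (g p.1.1 p.1.2).ofConv (p.2 : A)) ∪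
    (Finset.univ.biUnion fun a : s => (P a).coeffs) ∪
    (Finset.univ.image fun l => (Matrix.det (ptMat (g l) (M l)))⁻¹)
  let B := B₀ ⊔ B₁ ⊔ Algebra.adjoin R (G : Set K)
  have hB : B.FG := (hB₀.sup hB₁).sup ⟨G, rfl⟩
  have hGB : ∀ x ∈ G, x ∈ B := fun x hx => (le_sup_right : _ ≤ B) (Algebra.subset_adjoin hx)
  choose M' hM' using fun p : Σ l, Fin (d l) × Fin (d l) =>
    inclK_mono (le_sup_left.trans le_sup_left : B₀ ≤ B) (hB₀M p (Finset.mem_univ _))
  choose c' hc' using fun p : s × (Σ l, Fin (d l) × Fin (d l)) =>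
    inclK_mono (le_sup_right.trans le_sup_left : B₁ ≤ B) (hB₁c p (Finset.mem_univ _))
  let N : ∀ l, Matrix (Fin (d l)) (Fin (d l)) (B ⊗[R] A) := fun l i j => M' ⟨l, i, j⟩
  have hN : ∀ l, mapM B.val (N l) = M l := fun l => Matrix.ext fun i j => hM' ⟨l, i, j⟩
  have hinj : Function.Injective (inclK (A := A) B) := by
    show Function.Injective (B.val.toLinearMap.rTensor A)
    exact Module.Flat.rTensor_preserves_injective_linearMap _ Subtype.val_injective
  refine ⟨B, hB, m, d, N, fun l => IsRep.of_mapM B.val Subtype.val_injective (by rw [hN]; exact hM l),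
    fun l => ?_, ?_⟩
  · have hrange : ∀ (p : Fin (d l) × Fin (d l)) (a : A), (g l p).ofConv a ∈ B := by
      intro p a
      have ha : a ∈ Algebra.adjoin R (s : Set A) := hs ▸ Algebra.mem_top
      induction ha using Algebra.adjoin_induction with
      | mem x hx => exact hGB _ (Finset.mem_union_left _ (Finset.mem_union_left _
          (Finset.mem_image.2 ⟨(⟨l, p⟩, ⟨x, hx⟩), Finset.mem_univ _, rfl⟩)))
      | algebraMap r => rw [AlgHom.commutes]; exact B.algebraMap_mem r
      | add x y _ _ hx hy => rw [map_add]; exact add_mem hx hy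
      | mul x y _ _ hx hy => rw [map_mul]; exact mul_mem hx hy
    let g' : Fin (d l) × Fin (d l) → Pts R A B := fun p => toConv ((g l p).ofConv.codRestrict B (hrange p))
    have hg' : ∀ p, push B.val (g' p) = g l p := fun p => WithConv.ext (AlgHom.ext fun a => rfl)
    refine ⟨g', ?_⟩
    have h1 : (ptMat g' (N l)).map B.val = ptMat (g l) (M l) := by
      rw [ptMat_map, hN]
      congr 1
    refine IsUnit.of_mul_eq_one
      (⟨_, hGB _ (Finset.mem_union_right _ (Finset.mem_image.2 ⟨l, Finset.mem_univ _, rfl⟩))⟩ : B) (Subtype.ext ?_)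
    show (B.val (Matrix.det _) : K) * _ = 1
    rw [AlgHom.map_det, AlgHom.mapMatrix_apply, h1, mul_inv_cancel₀ (hg l)]
  · let I := kerI N
    have key : ∀ a : s, IsIntegral B (Ideal.Quotient.mk I ((1 : B) ⊗ₜ[R] (a : A))) := by
      intro a
      have hlift : P a ∈ Polynomial.lifts (B.val : B →+* K) := by
        rw [Polynomial.lifts_iff_coeffs_subset_range]
        intro x hx
        exact ⟨⟨x, hGB x (Finset.mem_union_left _ (Finset.mem_union_right _
          (Finset.mem_biUnion.2 ⟨a, Finset.mem_univ _, hx⟩)))⟩, rfl⟩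
      obtain ⟨P', hP', -, hP'm⟩ := Polynomial.lifts_and_degree_eq_and_monic hlift (hP a)
      refine ⟨P', hP'm, ?_⟩
      show Polynomial.aeval _ P' = 0
      rw [← Ideal.Quotient.mkₐ_eq_mk B, Polynomial.aeval_algHom_apply, Ideal.Quotient.mkₐ_eq_mk,
        Ideal.Quotient.eq_zero_iff_mem]
      refine Ideal.mem_span_range_iff_exists_fun.2 ⟨fun p => c' (a, p), hinj ?_⟩
      rw [map_sum]
      refine Eq.trans ?_ (((hc a).trans ?_))
      · refine Finset.sum_congr rfl fun p _ => ?_
        rw [map_mul, map_sub]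
        congr 1
        · exact hc' (a, p)
        · congr 1
          · exact hM' p
          · rw [Matrix.one_apply, Matrix.one_apply]
            split <;> simp
      · rw [← hP', Polynomial.aeval_def, Polynomial.aeval_def, Polynomial.eval₂_map]
        refine Eq.trans ?_ (Polynomial.hom_eval₂ P' _ (inclK (A := A) B).toRingHom _).symm
        congr 1
    refine ⟨fun x => ?_⟩
    obtain ⟨x, rfl⟩ := Ideal.Quotient.mk_surjective x
    induction x using TensorProduct.induction_on with
    | zero => rw [map_zero]; exact isIntegral_zero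
    | add x y hx hy => rw [map_add]; exact hx.add hy
    | tmul b a =>
      rw [mk_tmul]
      refine IsIntegral.smul b ?_
      have ha : a ∈ Algebra.adjoin R (s : Set A) := hs ▸ Algebra.mem_top
      induction ha using Algebra.adjoin_induction with
      | mem x hx => exact key ⟨x, hx⟩
      | algebraMap r =>
        rw [show (1 : B) ⊗ₜ[R] algebraMap R A r = algebraMap B (B ⊗[R] A) (algebraMap R B r) from
          ((Algebra.TensorProduct.includeRight (R := R) (A := B) (B := A)).commutes r).trans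
            (IsScalarTower.algebraMap_apply R B (B ⊗[R] A) r)]
        exact isIntegral_algebraMap
      | add x y _ _ hx hy => rw [TensorProduct.tmul_add, map_add]; exact hx.add hy
      | mul x y _ _ hx hy =>
        rw [show (1 : B) ⊗ₜ[R] (x * y) = ((1 : B) ⊗ₜ[R] x) * ((1 : B) ⊗ₜ[R] y) by
          rw [Algebra.TensorProduct.tmul_mul_tmul, one_mul], map_mul]
        exact hx.mul hy

end Groth.Agent.RedOpen
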